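import Cfsg.Agent.Lib.CentralTypeSmall.Regular
import Cfsg.Agent.Lib.PSolvable

/-!
# Fully ramified sections below a normal subgroup
-/

namespace CfsgLib.CentralTypeSmall

open Cfsg CfsgLib.CharTheory CfsgLib.FullyRamified
open scoped ComplexConjugate

set_option linter.unusedSectionVars false
set_option linter.style.haveILetI false
set_option linter.unusedVariables false

universe u

variable {H : Type u} [Group H] [Fintype H] {Z : Subgroup H} [Z.Normal] {θ : Z → ℂ} {χ : H → ℂ}
  {e : ℕ}

/-- The inertia group of a constituent carries a fully ramified section over it. -/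
theorem descend (R : Ramified Z θ χ e) (K : Subgroup H) [K.Normal] [Fintype K] (hZK : Z ≤ K)
    {ξ : K → ℂ} (hξ : IsIrrCharacter K ξ) (hc : classInner (resFn K χ) ξ ≠ 0) :
    ∃ (f m : ℕ) (θ' : K.subgroupOf (inertia K ξ) → ℂ) (ψ : inertia K ξ → ℂ),
      f ≠ 0 ∧ resSub hZK ξ = (f : ℂ) • θ ∧
      Z.relIndex K = (inertia K ξ).index * f ^ 2 ∧
      Ramified (K.subgroupOf (inertia K ξ)) θ' ψ m := by
  classical
  haveI := Fintype.ofFinite Z
  set T := inertia K ξ with hT
  have hKT : K ≤ T := le_inertia K (isClassFunction_irr hξ)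
  haveI := Fintype.ofFinite T
  obtain ⟨f, hf0, hf⟩ := R.res_constituent hZK hξ hc
  obtain ⟨m, hm⟩ := classInner_char_nat (isCharacter_restrict (isCharacter_of_irr R.irrTop) K)
    (isCharacter_of_irr hξ)
  change classInner (resFn K χ) ξ = m at hm
  have h1 := R.inner_res hZK ξ
  rw [hm, hf, classInner_smul_right, Complex.conj_natCast, classInner_irr_self R.irr, mul_one] at h1
  have h2 : classInner (resFn K χ) (resFn K χ) = ((m ^ 2 * T.index : ℕ) : ℂ) := by
    have hcl : resFn K χ = (m : ℂ) • ∑ ψ ∈ conjOrbit K ξ, ψ := by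
      have := clifford K R.irrTop hξ hc
      rw [← hm]
      exact this
    conv_lhs => arg 2; rw [hcl]
    rw [classInner_smul_right, Complex.conj_natCast, classInner_sum_right,
      Finset.sum_congr rfl (g := fun _ => (m : ℂ)) fun ψ hψ => by
        obtain ⟨g, rfl⟩ := (mem_conjOrbit _).1 hψ
        exact (classInner_res_conjNormFun K g (isClassFunction_irr R.irrTop) ξ).trans hm,
      Finset.sum_const, nsmul_eq_mul, card_conjOrbit, ← hT]
    push_cast
    ring
  have h3 := R.inner_self hZK
  rw [h2] at h3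
  have h3' : m ^ 2 * T.index * Z.relIndex K = e ^ 2 := by exact_mod_cast h3
  have h1' : m * Z.relIndex K = e * f := by exact_mod_cast h1
  have h4 : Z.relIndex K = T.index * f ^ 2 := by
    have hm0 : m ≠ 0 := fun h0 => hc (by rw [hm, h0, Nat.cast_zero])
    refine Nat.eq_of_mul_eq_mul_left (Nat.pos_of_ne_zero (mul_ne_zero (pow_ne_zero 2 hm0)
      (Subgroup.index_ne_zero_of_finite (H := Z.subgroupOf K)))) ?_
    show m ^ 2 * Z.relIndex K * Z.relIndex K = m ^ 2 * Z.relIndex K * (T.index * f ^ 2)
    calc m ^ 2 * Z.relIndex K * Z.relIndex K = (m * Z.relIndex K) ^ 2 := by ring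
      _ = e ^ 2 * f ^ 2 := by rw [h1', mul_pow]
      _ = m ^ 2 * T.index * Z.relIndex K * f ^ 2 := by rw [h3']
      _ = _ := by ring
  have h5 : m ^ 2 = K.relIndex T := by
    have hi := Subgroup.relIndex_mul_index hZK
    rw [← Subgroup.relIndex_mul_index hKT, ← R.sq, ← h3'] at hi
    have hpos : Z.relIndex K * T.index ≠ 0 :=
      mul_ne_zero (Subgroup.index_ne_zero_of_finite (H := Z.subgroupOf K))
        Subgroup.index_ne_zero_of_finite
    refine mul_right_cancel₀ hpos ?_
    calc m ^ 2 * (Z.relIndex K * T.index) = m ^ 2 * T.index * Z.relIndex K := by ring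
      _ = _ := by rw [← hi]; ring
  obtain ⟨ψ, hψ, hψc, hind⟩ := exists_clifford_pre K hξ hKT hT R.irrTop hc
  have h6 := (clifford_correspondence K hξ hKT hT hψ hψc).2
  rw [hind] at h6
  have h7 := res_of_inertia K hξ hKT hT.le hψ hψc
  rw [← h6, show classInner (fun n : K => χ n) ξ = m from hm] at h7
  refine ⟨f, m, fun x => ξ ⟨((x : T) : H), Subgroup.mem_subgroupOf.1 x.2⟩, ψ, hf0, hf, h4,
    ⟨isIrr_subgroupOf K hKT hξ, hψ, h5, fun x => ?_⟩⟩
  have := congrFun h7 ⟨((x : T) : H), Subgroup.mem_subgroupOf.1 x.2⟩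
  simpa using this

/-- The linear twists relating two characters above the same one. -/
theorem exists_linear_twist (Z : Subgroup H) [Z.Normal] (K : Subgroup H) [Fintype K]
    (hZK : Z ≤ K) (hab : AbMod Z K) {ξ η : K → ℂ} (hξ : IsIrrCharacter K ξ)
    (hη : IsIrrCharacter K η) [Fintype Z] (hne : classInner (resSub hZK ξ) (resSub hZK η) ≠ 0) :
    ∃ φ : K →* ℂ, η = fun k => ξ k * φ k := by
  classical
  haveI := Fintype.ofFinite (Z.subgroupOf K)
  set one : (Z.subgroupOf K) → ℂ := fun _ => 1 with hone
  have h1 : classInner (indFun (Z.subgroupOf K) one * ξ) η ≠ 0 := by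
    rw [← indFun_mul (Z.subgroupOf K) one (isClassFunction_irr hξ),
      frobenius_reciprocity (Z.subgroupOf K) _ (isClassFunction_irr hη)]
    rw [show (one * fun h : Z.subgroupOf K => ξ h) = fun h : Z.subgroupOf K => ξ h by
      funext h; simp [hone]]
    rw [← classInner_equiv (Subgroup.subgroupOfEquivOfLe hZK)] at hne
    exact hne
  rw [eq_sum_irr (indFun_isClassFunction (Z.subgroupOf K) one), Finset.sum_mul,
    classInner_sum_left] at h1
  obtain ⟨φ, -, hφ⟩ := Finset.exists_ne_zero_of_sum_ne_zero h1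
  rw [smul_mul_assoc, classInner_smul_left] at hφ
  have hφ1 : (φ : K → ℂ) 1 = 1 := by
    have hne' := left_ne_zero_of_mul hφ
    rw [frobenius_reciprocity _ _ (isClassFunction_irr φ.2), ← classInner_comm, Ne, map_eq_zero] at hne'
    have hres := clifford_invariant (Z.subgroupOf K) φ.2 isIrrCharacter_one hne' (fun g => rfl)
    refine irr_degree_one_of_kernel_commutator (Z.subgroupOf K) (abMod_subgroupOf hab) φ.2
      fun n hn => ?_
    have e1 := congrFun hres ⟨n, hn⟩
    have e2 := congrFun hres 1
    simp only [Pi.smul_apply, Subgroup.coe_one] at e1 e2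
    rw [e1, e2]
  obtain ⟨l, hl⟩ := exists_hom_of_degree_one (isCharacter_of_irr φ.2) hφ1
  have hirr := isIrrCharacter_mul_linear hξ φ.2 hφ1
  have h3 := right_ne_zero_of_mul hφ
  rw [mul_comm] at h3
  have h4 : ξ * (φ : K → ℂ) = η := by
    by_contra hne'
    exact h3 (classInner_irr_ne hirr hη hne')
  exact ⟨(Units.coeHom ℂ).comp l, by rw [← h4, hl]; rfl⟩

theorem le_comap_mk (A : Subgroup (H ⧸ Z)) : Z ≤ A.comap (QuotientGroup.mk' Z) := fun z hz => by
  rw [Subgroup.mem_comap, show QuotientGroup.mk' Z z = 1 from (QuotientGroup.eq_one_iff z).2 hz]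
  exact one_mem _

/-- What the induction gives for the constituents below normal subgroups. -/
def InertiaSolvable (Z : Subgroup H) (χ : H → ℂ) : Prop :=
  ∀ (K : Subgroup H) [K.Normal] [Fintype K], Z ≤ K → K ≠ Z → ∀ ξ : K → ℂ, IsIrrCharacter K ξ →
    classInner (resFn K χ) ξ ≠ 0 → Group.IsSolvable (↥(inertia K ξ) ⧸ K.subgroupOf (inertia K ξ))

/-- An abelian minimal normal subgroup is translated regularly on a constituent. -/
theorem exists_translation_section (R : Ramified Z θ χ e) (hIH : InertiaSolvable Z χ)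
    (hns : ¬ Group.IsSolvable (H ⧸ Z)) (A : Subgroup (H ⧸ Z)) [A.Normal] (hA : A ≠ ⊥)
    (hcomm : ∀ a ∈ A, ∀ b ∈ A, Commute a b)
    (hmin : ∀ M : Subgroup (H ⧸ Z), M.Normal → M ≤ A → M = ⊥ ∨ M = A) :
    ∃ T : Subgroup (H ⧸ Z), A ≤ T ∧ T.index = Nat.card A ∧ Group.IsSolvable T ∧
      Group.IsSolvable (Subgroup.centralizer (A : Set (H ⧸ Z))) := by
  classical
  set π := QuotientGroup.mk' Z with hπ
  have hπs : Function.Surjective π := QuotientGroup.mk'_surjective Z
  set K := A.comap π with hK
  have hZK : Z ≤ K := le_comap_mk A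
  haveI := Fintype.ofFinite Z
  haveI := Fintype.ofFinite K
  have hKne : K ≠ Z := fun h => hA (by
    rw [eq_bot_iff]
    intro a ha
    obtain ⟨k, rfl⟩ := hπs a
    exact Subgroup.mem_bot.2 ((QuotientGroup.eq_one_iff k).2 (h ▸ (ha : k ∈ K))))
  have hcard : Z.relIndex K = Nat.card A := by
    have h1 := CfsgLib.card_comap_mk Z A
    rw [show A.comap (QuotientGroup.mk' Z) = K from rfl, ← Subgroup.card_mul_index (Z.subgroupOf K),
      Nat.card_congr (Subgroup.subgroupOfEquivOfLe hZK).toEquiv] at h1
    exact Nat.eq_of_mul_eq_mul_left Nat.card_pos h1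
  have hKab : AbMod Z K := abMod_iff.2 fun a ha b hb => hcomm _ ha _ hb
  obtain ⟨ξ, hξ, hc⟩ := exists_constituent
    (isCharacter_restrict (isCharacter_of_irr R.irrTop) K)
    fun h0 => irr_ne_zero R.irrTop (congrFun h0 1)
  change classInner (resFn K χ) ξ ≠ 0 at hc
  obtain ⟨f, m, θ', ψ, hf0, hf, hidx, hram⟩ := descend R K hZK hξ hc
  have hsolTK := hIH K hZK hKne ξ hξ hc
  set T := inertia K ξ with hTdef
  have hKT : K ≤ T := le_inertia K (isClassFunction_irr hξ)
  set Tb := T.map π with hTb
  have hAT : A ≤ Tb := by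
    rw [hTb, ← Subgroup.map_comap_eq_self_of_surjective hπs A]
    exact Subgroup.map_mono hKT
  haveI hAsol : Group.IsSolvable A :=
    Group.isSolvable_of_comm fun a b => Subtype.ext (hcomm a a.2 b b.2)
  have hTsol : Group.IsSolvable Tb := by
    let g : T →* ↥Tb ⧸ A.subgroupOf Tb := (QuotientGroup.mk' _).comp (π.subgroupMap T)
    have hker : K.subgroupOf T ≤ g.ker := fun t ht => by
      rw [MonoidHom.mem_ker]
      exact (QuotientGroup.eq_one_iff _).2 (Subgroup.mem_subgroupOf.2 (Subgroup.mem_subgroupOf.1 ht))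
    haveI := hsolTK
    haveI : Group.IsSolvable (↥Tb ⧸ A.subgroupOf Tb) :=
      Group.isSolvable_of_surjective (f := QuotientGroup.lift _ g hker) fun q => by
        obtain ⟨t, ht⟩ := (QuotientGroup.mk'_surjective _).comp (π.subgroupMap_surjective T) q
        exact ⟨QuotientGroup.mk t, ht⟩
    refine Group.isSolvable_of_ker_le_range (Subgroup.inclusion hAT) (QuotientGroup.mk' (A.subgroupOf Tb))
      fun t ht => ?_
    rw [QuotientGroup.ker_mk', Subgroup.mem_subgroupOf] at ht
    exact ⟨⟨t, ht⟩, rfl⟩
  have hTidx : Tb.index = T.index :=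
    Subgroup.index_map_eq T hπs (by rw [hπ, QuotientGroup.ker_mk']; exact hZK.trans hKT)
  have hTne : T.index ≠ 1 := fun h => hns (by
    have hTbt : Tb = ⊤ := Subgroup.index_eq_one.1 (hTidx.trans h)
    haveI := hTsol
    exact Group.isSolvable_of_surjective (f := Tb.subtype) fun x => ⟨⟨x, hTbt ▸ Subgroup.mem_top x⟩, rfl⟩)
  -- the conjugates are twists
  have htwist : ∀ g : H, ∃ φ : K →* ℂ, conjNormFun K g ξ = fun k => ξ k * φ k := by
    intro g
    refine exists_linear_twist Z K hZK hKab hξ (isIrr_conjNormFun K g hξ) ?_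
    obtain ⟨f', hf'0, hf'⟩ := R.res_constituent hZK (isIrr_conjNormFun K g hξ)
      (by
        rw [show classInner (resFn K χ) (conjNormFun K g ξ) = classInner (resFn K χ) ξ from
          classInner_res_conjNormFun K g (isClassFunction_irr R.irrTop) ξ]
        exact hc)
    rw [hf, hf', classInner_smul_left, classInner_smul_right, classInner_irr_self R.irr,
      Complex.conj_natCast, mul_one]
    exact mul_ne_zero (Nat.cast_ne_zero.2 hf0) (Nat.cast_ne_zero.2 hf'0)
  set S : Set H := {x | x ∈ Z ∨ ∃ h : x ∈ K, ξ ⟨x, h⟩ ≠ 0} with hS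
  have hSK : S ⊆ K := fun x hx => hx.elim (fun h => hZK h) fun ⟨h, _⟩ => h
  have hSconj : ∀ g : H, ∀ x ∈ S, g * x * g⁻¹ ∈ S := by
    intro g x hx
    rcases hx with hx | ⟨hx, hne⟩
    · exact Or.inl (Subgroup.Normal.conj_mem inferInstance x hx g)
    · have hx' : g * x * g⁻¹ ∈ K := Subgroup.Normal.conj_mem inferInstance x hx g
      refine Or.inr ⟨hx', ?_⟩
      obtain ⟨φ, hφ⟩ := htwist g
      have := congrFun hφ ⟨x, hx⟩
      rw [conjNormFun] at this
      rw [this]
      refine mul_ne_zero hne fun h0 => ?_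
      have h1 : φ ⟨x, hx⟩ * φ ⟨x, hx⟩⁻¹ = 1 := by rw [← map_mul, mul_inv_cancel, map_one]
      rw [h0, zero_mul] at h1
      exact zero_ne_one h1
  set K0 := Subgroup.closure S with hK0
  haveI hK0n : K0.Normal := ⟨fun x hx g => by
    induction hx using Subgroup.closure_induction with
    | mem w hw => exact Subgroup.subset_closure (hSconj g w hw)
    | one => simp
    | mul a b _ _ ha hb =>
      rw [show g * (a * b) * g⁻¹ = g * a * g⁻¹ * (g * b * g⁻¹) by group]; exact mul_mem ha hb
    | inv a _ ha => rw [show g * a⁻¹ * g⁻¹ = (g * a * g⁻¹)⁻¹ by group]; exact inv_mem ha⟩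
  have hK0K : K0 ≤ K := (Subgroup.closure_le K).2 hSK
  have hZK0 : Z ≤ K0 := fun z hz => Subgroup.subset_closure (Or.inl hz)
  have hf1 : f = 1 := by
    haveI := Fintype.ofFinite (Z.subgroupOf K)
    rcases hmin (K0.map π) (Subgroup.Normal.map inferInstance π hπs)
      (Subgroup.map_le_iff_le_comap.2 hK0K) with hbot | htop
    · -- supported on `Z`: fully ramified, so invariant
      exfalso
      have hK0Z : ∀ k : K, (k : H) ∉ Z → ξ k = 0 := fun k hk => by
        by_contra hne
        have : π (k : H) ∈ K0.map π :=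
          Subgroup.mem_map_of_mem π (Subgroup.subset_closure (Or.inr ⟨k.2, hne⟩))
        rw [hbot, Subgroup.mem_bot] at this
        exact hk ((QuotientGroup.eq_one_iff (k : H)).1 this)
      have h1 := sum_mul_conj_irr hξ
      have h2 : ∑ k : K, ξ k * conj (ξ k) = ∑ z : Z, ((f : ℂ) * θ z) * conj ((f : ℂ) * θ z) := by
        rw [← Finset.sum_subset (Finset.subset_univ (Finset.univ.filter fun k : K => (k : H) ∈ Z))
          (fun k _ hk => by rw [hK0Z k (by simpa using hk), zero_mul])]
        refine Finset.sum_bij' (fun k hk => (⟨(k : H), (Finset.mem_filter.1 hk).2⟩ : Z))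
          (fun z _ => (⟨(z : H), hZK z.2⟩ : K)) (fun _ _ => Finset.mem_univ _)
          (fun z _ => by simp) (fun _ _ => rfl) (fun _ _ => rfl) (fun k hk => ?_)
        have := congrFun hf ⟨(k : H), (Finset.mem_filter.1 hk).2⟩
        simp only [resSub, Pi.smul_apply, smul_eq_mul] at this
        rw [← this]
      rw [h2] at h1
      simp only [map_mul, Complex.conj_natCast] at h1
      rw [Finset.sum_congr rfl (g := fun z : Z => ((f : ℂ) ^ 2) * (θ z * conj (θ z)))
        (fun z _ => by ring), ← Finset.mul_sum, sum_mul_conj_irr R.irr] at h1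
      have h3 : Nat.card K = Nat.card Z * Z.relIndex K := by
        rw [Subgroup.relIndex, ← Nat.card_congr (Subgroup.subgroupOfEquivOfLe hZK).toEquiv,
          Subgroup.card_mul_index]
      have h4 : f ^ 2 * Nat.card Z = Nat.card Z * Z.relIndex K := by
        rw [← h3]; exact_mod_cast h1
      rw [hidx, mul_comm] at h4
      exact hTne (Nat.eq_of_mul_eq_mul_right (pow_pos (Nat.pos_of_ne_zero hf0) 2)
        ((Nat.eq_of_mul_eq_mul_left Nat.card_pos h4).symm.trans (one_mul _).symm))
    · -- generated by the support: twists are faithful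
      have hK0top : ∀ k ∈ K, k ∈ K0 := by
        intro k hk
        have : π k ∈ K0.map π := by rw [htop]; exact hk
        obtain ⟨k', hk', he⟩ := this
        have hz : k'⁻¹ * k ∈ Z := QuotientGroup.eq.1 he
        simpa using mul_mem hk' (hZK0 hz)
      set one : (Z.subgroupOf K) → ℂ := fun _ => 1 with hone
      have h1 : classInner (indFun (Z.subgroupOf K) one * ξ) ξ = ((f ^ 2 : ℕ) : ℂ) := by
        rw [← indFun_mul (Z.subgroupOf K) one (isClassFunction_irr hξ),
          frobenius_reciprocity (Z.subgroupOf K) _ (isClassFunction_irr hξ)]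
        rw [show (one * fun h : Z.subgroupOf K => ξ h) = fun h : Z.subgroupOf K => ξ h by
          funext h; simp [hone]]
        have h2 : classInner (resSub hZK ξ) (resSub hZK ξ) = ((f ^ 2 : ℕ) : ℂ) := by
          rw [hf, classInner_smul_left, classInner_smul_right, classInner_irr_self R.irr,
            Complex.conj_natCast]
          push_cast; ring
        rw [← classInner_equiv (Subgroup.subgroupOfEquivOfLe hZK)] at h2
        exact h2
      rw [eq_sum_irr (indFun_isClassFunction (Z.subgroupOf K) one), Finset.sum_mul,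
        classInner_sum_left, Finset.sum_eq_single (⟨fun _ => 1, isIrrCharacter_one⟩ : IrrCharacter K)]
        at h1
      · rw [smul_mul_assoc, classInner_smul_left, frobenius_reciprocity _ _ isClassFunction_one,
          show (fun _ : K => (1 : ℂ)) * ξ = ξ from funext fun k => one_mul _, classInner_irr_self hξ,
          mul_one] at h1
        rw [show classInner one (fun _ : Z.subgroupOf K => (1 : ℂ)) = 1 from
          classInner_irr_self isIrrCharacter_one] at h1
        have : f ^ 2 = 1 := by exact_mod_cast h1.symm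
        exact (pow_eq_one_iff.1 this).resolve_right two_ne_zero
      · intro φ _ hne
        rw [smul_mul_assoc, classInner_smul_left]
        by_contra h0
        have hne' := left_ne_zero_of_mul h0
        rw [frobenius_reciprocity _ _ (isClassFunction_irr φ.2), ← classInner_comm, Ne, map_eq_zero]
          at hne'
        have hres := clifford_invariant (Z.subgroupOf K) φ.2 isIrrCharacter_one hne' (fun g => rfl)
        have hker : ∀ n ∈ Z.subgroupOf K, (φ : K → ℂ) n = (φ : K → ℂ) 1 := fun n hn => by
          have e1 := congrFun hres ⟨n, hn⟩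
          have e2 := congrFun hres 1
          simp only [Pi.smul_apply, Subgroup.coe_one] at e1 e2
          rw [e1, e2]
        have hd := irr_degree_one_of_kernel_commutator (Z.subgroupOf K) (abMod_subgroupOf hKab) φ.2 hker
        obtain ⟨l, hl⟩ := exists_hom_of_degree_one (isCharacter_of_irr φ.2) hd
        have heq : (φ : K → ℂ) * ξ = ξ := by
          by_contra hne2
          rw [mul_comm] at hne2
          apply right_ne_zero_of_mul h0
          rw [mul_comm]
          exact classInner_irr_ne (isIrrCharacter_mul_linear hξ φ.2 hd) hξ hne2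
        refine hne (Subtype.ext ?_)
        have hle : K0.subgroupOf K ≤ l.ker := by
          intro k hk
          have hk' : (k : H) ∈ (l.ker.map K.subtype) := by
            refine (Subgroup.closure_le _).2 ?_ (Subgroup.mem_subgroupOf.1 hk)
            intro x hx
            refine ⟨⟨x, hSK hx⟩, ?_, rfl⟩
            rw [SetLike.mem_coe, MonoidHom.mem_ker]
            apply Units.ext
            rcases hx with hx | ⟨hx, hxne⟩
            · rw [← congrFun hl, hker _ (Subgroup.mem_subgroupOf.2 hx), hd]; rfl
            · have := congrFun heq ⟨x, hx⟩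
              rw [Pi.mul_apply] at this
              rw [← congrFun hl]
              exact mul_right_cancel₀ hxne (this.trans (one_mul _).symm)
          obtain ⟨k', hk', he⟩ := hk'
          rwa [show k' = k from Subtype.ext he] at hk'
        funext k
        rw [congrFun hl k, MonoidHom.mem_ker.1 (hle (Subgroup.mem_subgroupOf.2 (hK0top k k.2)))]
        rfl
      · exact fun h => absurd (Finset.mem_univ _) h
  subst hf1
  rw [one_pow, mul_one, hcard] at hidx
  refine ⟨Tb, hAT, hTidx.trans hidx.symm, hTsol, ?_⟩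
  have hExt : Ext Z θ K ξ :=
    { le := hZK
      irr := hξ
      res := fun u hu => by
        have := congrFun hf ⟨u, hu⟩
        rw [Nat.cast_one, one_smul] at this
        exact this }
  have hB := base_of_ramified R
  set C := Subgroup.centralizer (A : Set (H ⧸ Z)) with hC
  have hCm : ∀ c ∈ C, ∀ a ∈ A, Commute a c := fun c hc a ha => Subgroup.mem_centralizer_iff.1 hc a ha
  let F : C →* (A → ℂ) :=
    { toFun := fun c a => pairB Z θ (a : H ⧸ Z) (c : H ⧸ Z)
      map_one' := funext fun a => pairB_one_right hB _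
      map_mul' := fun c d => funext fun a => pairB_mul_right hB (hCm c c.2 a a.2) (hCm d d.2 a a.2) }
  haveI : Group.IsSolvable ↥(F.toHomUnits.ker) := by
    haveI := hTsol
    have hle : ∀ c : C, c ∈ F.toHomUnits.ker → (c : H ⧸ Z) ∈ Tb := by
      intro c hcker
      obtain ⟨gh, hgh⟩ := hπs (c : H ⧸ Z)
      have h1 : ∀ a : A, pairB Z θ (a : H ⧸ Z) (c : H ⧸ Z) = 1 := fun a =>
        congrFun (congrArg Units.val (MonoidHom.mem_ker.1 hcker)) a
      have hcen : Cen Z K gh := cen_iff.2 fun u hu => by
        rw [show (gh : H ⧸ Z) = c from hgh]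
        exact (hCm c c.2 _ hu).symm
      have htw := fixed_of_pairB hB hExt hKab hcen fun u hu => by
        rw [show (gh : H ⧸ Z) = c from hgh]
        exact h1 ⟨_, hu⟩
      rw [← hgh]
      refine Subgroup.mem_map_of_mem π ((mem_inertia K).2 (funext fun u => ?_))
      have := htw.conj u ⟨gh * u * gh⁻¹, Subgroup.Normal.conj_mem inferInstance _ u.2 gh⟩ rfl
      rw [MonoidHom.one_apply, one_mul] at this
      exact this
    refine Group.isSolvable_of_isSolvable_injective (f := (C.subtype.comp F.toHomUnits.ker.subtype).codRestrict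
      Tb fun c => hle c c.2) fun a b hab => ?_
    exact Subtype.ext (Subtype.ext (congrArg (Subtype.val : Tb → H ⧸ Z) hab))
  haveI : Group.IsSolvable (A → ℂ)ˣ := Group.isSolvable_of_comm mul_comm
  exact Group.isSolvable_of_ker_le_range F.toHomUnits.ker.subtype F.toHomUnits
    (by rw [Subgroup.range_subtype])

end CfsgLib.CentralTypeSmall
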