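import Cfsg.Agent.Lib.CentralTypeSmall.RadBasics
import Cfsg.Agent.Lib.PSolvable

/-!
# The solvable radical of a group of central type with small nonabelian Sylow subgroups
-/

namespace CfsgLib.CentralTypeSmall

open Cfsg

set_option linter.unusedSectionVars false
set_option linter.style.haveILetI false
set_option linter.unusedVariables false

universe u

variable {G : Type u} [Group G] [Finite G]

/-- Every abelian minimal normal subgroup `A` comes with a solvable subgroup above it of index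
`|A|`, and has solvable centraliser. -/
def Translated (G : Type u) [Group G] : Prop :=
  ∀ A : Subgroup G, A.Normal → A ≠ ⊥ → (∀ a ∈ A, ∀ b ∈ A, Commute a b) →
    (∀ M : Subgroup G, M.Normal → M ≤ A → M = ⊥ ∨ M = A) →
    ∃ T : Subgroup G, A ≤ T ∧ T.index = Nat.card A ∧ Group.IsSolvable T ∧
      Group.IsSolvable (Subgroup.centralizer (A : Set G))

/-- The standing hypotheses. -/
structure Sit (G : Type u) [Group G] : Prop where
  ns : ¬ Group.IsSolvable G
  sq : IsSquare (Nat.card G)
  ab : ∀ p : ℕ, p.Prime → p ^ 6 ∣ Nat.card G → ∀ P : Sylow p G, IsMulCommutative P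
  tr : Translated G

/-- An elementary abelian minimal normal subgroup. -/
structure Elem (A : Subgroup G) (q : ℕ) : Prop where
  normal : A.Normal
  ne_bot : A ≠ ⊥
  comm : ∀ a ∈ A, ∀ b ∈ A, Commute a b
  exp : ∀ a ∈ A, a ^ q = 1
  min : ∀ M : Subgroup G, M.Normal → M ≤ A → M = ⊥ ∨ M = A

theorem Elem.isPGroup {A : Subgroup G} {q : ℕ} (h : Elem A q) : IsPGroup q A :=
  fun a => ⟨1, Subtype.ext (by rw [pow_one, SubgroupClass.coe_pow]; exact h.exp a a.2)⟩

/-- The facts about an elementary abelian minimal normal subgroup. -/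
theorem Sit.facts (D : Sit G) {A : Subgroup G} {q : ℕ} (hq : q.Prime) (h : Elem A q) :
    ∃ T : Subgroup G, A ≤ T ∧ T.index = q ^ 2 ∧ Group.IsSolvable T ∧
      Group.IsSolvable (Subgroup.centralizer (A : Set G)) ∧ Nat.card A = q ^ 2 ∧ 5 ≤ q ∧
      (Nat.card G).factorization q = 4 ∧ q ∣ (Subgroup.centralizer (A : Set G)).index ∧
      (Subgroup.centralizer (A : Set G)).index ∣ q * ((q - 1) ^ 2 * (q + 1)) := by
  classical
  haveI := Fact.mk hq
  haveI := h.normal
  obtain ⟨T, hAT, hTi, hTsol, hCsol⟩ := D.tr A h.normal h.ne_bot h.comm h.min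
  obtain ⟨a, ha⟩ := IsPGroup.iff_card.1 h.isPGroup
  set C := Subgroup.centralizer (A : Set G) with hC
  haveI : C.Normal := inferInstance
  have ha0 : a ≠ 0 := fun h0 => h.ne_bot (Subgroup.card_eq_one.1 (by rw [ha, h0, pow_zero]))
  -- a nonabelian Sylow subgroup
  have hdvd : q ∣ C.index := by
    by_contra hnd
    refine D.ns (solvable_of_coprime_index C T hCsol hTsol ?_)
    rw [hTi, ha]
    exact (Nat.Coprime.pow_left a (hq.coprime_iff_not_dvd.2 hnd)).symm
  have hnonab : ∀ P : Sylow q G, ¬ IsMulCommutative P := fun P hP => by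
    refine P.not_dvd_index (hdvd.trans (Subgroup.index_dvd_of_le ?_))
    have hAP : A ≤ (P : Subgroup G) := (le_pCore h.isPGroup).trans (pCore_le_sylow P)
    intro x hx
    rw [hC, Subgroup.mem_centralizer_iff]
    intro y hy
    exact congrArg Subtype.val (hP.is_comm.comm (⟨y, hAP hy⟩ : P) ⟨x, hx⟩)
  set v := (Nat.card G).factorization q with hv
  obtain ⟨P⟩ : Nonempty (Sylow q G) := inferInstance
  have hv6 : v < 6 := by
    by_contra hle
    exact hnonab P (D.ab q hq ((Nat.Prime.pow_dvd_iff_le_factorization hq Nat.card_pos.ne').2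
      (not_lt.1 hle)) P)
  obtain ⟨s, hs⟩ := D.sq
  have hveven : v = 2 * s.factorization q := by
    have hs0 : s ≠ 0 := fun h0 => (Nat.card_pos (α := G)).ne' (by rw [hs, h0, mul_zero])
    rw [hv, hs, Nat.factorization_mul hs0 hs0, Finsupp.add_apply, two_mul]
  have hv2 : ¬ v ≤ 2 := fun hle => hnonab P (by
    have hcard : Nat.card P = q ^ v := P.card_eq_multiplicity
    interval_cases hvv : v
    · haveI : Subsingleton P := (Nat.card_eq_one_iff_unique.1 (hcard.trans (pow_zero q))).1
      exact ⟨⟨fun x y => Subsingleton.elim _ _⟩⟩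
    · omega
    · exact IsPGroup.isMulCommutative_of_card_eq_prime_sq hcard)
  have hv4 : v = 4 := by omega
  have ha2 : a ≤ 2 := by
    have h1 : q ^ (a + a) ∣ Nat.card G := by
      rw [← T.card_mul_index, pow_add]
      exact Nat.mul_dvd_mul (ha ▸ Subgroup.card_dvd_of_le hAT) (by rw [hTi, ha])
    have := (Nat.Prime.pow_dvd_iff_le_factorization hq Nat.card_pos.ne').1 h1
    omega
  have ha' : a = 2 := by
    by_contra hne
    have ha1 : a = 1 := by omega
    rw [ha1, pow_one] at ha
    haveI : Group.IsSolvable (MulAut A) := Group.isSolvable_of_comm (mulAut_comm_of_prime ha)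
    haveI := hCsol
    refine D.ns (Group.isSolvable_of_ker_le_range C.subtype (MulAut.conjNormal (H := A)) ?_)
    intro g hg
    rw [Subgroup.range_subtype, hC, Subgroup.mem_centralizer_iff]
    intro x hx
    have := congrArg Subtype.val (DFunLike.congr_fun (MonoidHom.mem_ker.1 hg) (⟨x, hx⟩ : A))
    rw [MulAut.conjNormal_apply, MulAut.one_apply] at this
    calc x * g = g * x * g⁻¹ * g := by rw [this]
      _ = g * x := by group
  subst ha'
  obtain ⟨φ, hker, -⟩ := exists_gl2_rep A h.comm h.exp ha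
  have hidx : C.index ∣ q * ((q - 1) ^ 2 * (q + 1)) := by rw [hC, ← hker]; exact index_ker_dvd φ
  refine ⟨T, hAT, hTi.trans ha, hTsol, hCsol, ha, ?_, hv4, hdvd, hidx⟩
  by_contra hq5
  have h48 : C.index ∣ 2 ^ 4 * 3 ^ 1 := by
    have hq23 : q = 2 ∨ q = 3 := by
      have := hq.two_le
      have : q ≠ 4 := fun h4 => by rw [h4] at hq; exact absurd hq (by norm_num)
      omega
    rcases hq23 with rfl | rfl
    · exact hidx.trans (by norm_num)
    · exact hidx.trans (by norm_num)
  obtain ⟨y, z, hy, hz, hyz⟩ := Nat.dvd_mul.1 h48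
  obtain ⟨i, -, rfl⟩ := (Nat.dvd_prime_pow Nat.prime_two).1 hy
  obtain ⟨j, -, rfl⟩ := (Nat.dvd_prime_pow Nat.prime_three).1 hz
  haveI : Group.IsSolvable (G ⧸ C) :=
    CfsgLib.CharTheory.isSolvable_of_card_two_primes Nat.prime_two Nat.prime_three hyz.symm
  haveI := hCsol
  exact D.ns (Group.isSolvable_of_ker_le_range C.subtype (QuotientGroup.mk' C)
    (by rw [QuotientGroup.ker_mk', Subgroup.range_subtype]))

/-- All abelian minimal normal subgroups belong to one prime. -/
theorem Sit.prime_eq (D : Sit G) {A B : Subgroup G} {q r : ℕ} (hq : q.Prime) (hr : r.Prime)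
    (hA : Elem A q) (hB : Elem B r) : q = r := by
  have key : ∀ {A B : Subgroup G} {q r : ℕ}, q.Prime → r.Prime → Elem A q → Elem B r → r < q → False := by
    intro A B q r hq hr hA hB hlt
    haveI := hB.normal
    obtain ⟨T, -, hTi, hTsol, -, -, -, -, -, -⟩ := D.facts hq hA
    obtain ⟨-, -, -, -, hCsol, -, hr5, -, -, hidx⟩ := D.facts hr hB
    refine D.ns (solvable_of_coprime_index _ T hCsol hTsol ?_)
    rw [hTi]
    exact ((Nat.Coprime.pow_left 2 (hq.coprime_iff_not_dvd.2 fun hd =>
      not_dvd_gl2_of_lt hq hr hr5 hlt (hd.trans hidx)))).symm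
  rcases lt_trichotomy q r with h | h | h
  · exact (key hr hq hB hA h).elim
  · exact h
  · exact (key hq hr hA hB h).elim

/-- The `q`-core of the centraliser, as a subgroup of the whole group. -/
theorem Sit.false_of_elem (D : Sit G) {A : Subgroup G} {q : ℕ} (hq : q.Prime) (hA : Elem A q) :
    False := by
  classical
  haveI := Fact.mk hq
  haveI := hA.normal
  obtain ⟨T, hAT, hTi, hTsol, hCsol, hAc, hq5, hv4, hdvd, hidx⟩ := D.facts hq hA
  set C := Subgroup.centralizer (A : Set G) with hC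
  haveI : C.Normal := inferInstance
  haveI := hCsol
  have hAC : A ≤ C := fun a ha => by
    rw [hC, Subgroup.mem_centralizer_iff]
    exact fun b hb => (hA.comm b hb a ha).eq
  have hCA : ∀ c ∈ C, ∀ a ∈ A, c * a * c⁻¹ = a := fun c hc a ha => by
    rw [← Subgroup.mem_centralizer_iff.1 hc a ha, mul_inv_cancel_right]
  have hcoreC : pPrimeCore q C = ⊥ := by
    by_contra hne
    have hn : ((pPrimeCore q C).map C.subtype).Normal := inferInstance
    obtain ⟨E, r, hEn, hEle, hE0, hr, hEc, hEe, hEmin⟩ := exists_elem_minNormal_le hn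
      (fun h => hne ((Subgroup.map_eq_bot_iff_of_injective _ C.subtype_injective).1 h))
      (Group.isSolvable_of_surjective (f := C.subtype.subgroupMap (pPrimeCore q C))
        (MonoidHom.subgroupMap_surjective _ _))
    have hqr := D.prime_eq hq hr hA ⟨hEn, hE0, hEc, hEe, hEmin⟩
    subst hqr
    obtain ⟨k, hk⟩ := IsPGroup.iff_card.1 (Elem.isPGroup (q := q) ⟨hEn, hE0, hEc, hEe, hEmin⟩)
    have hk0 : k ≠ 0 := fun h0 => hE0 (Subgroup.card_eq_one.1 (by rw [hk, h0, pow_zero]))
    refine not_dvd_card_pPrimeCore (G := C) hq ?_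
    rw [← Subgroup.card_map_of_injective C.subtype_injective]
    exact ((dvd_pow_self q hk0).trans (dvd_of_eq hk.symm)).trans (Subgroup.card_dvd_of_le hEle)
  set Q := (pCore q C).map C.subtype with hQ
  haveI hQn : Q.Normal := inferInstance
  have hQC : Q ≤ C := Subgroup.map_subtype_le _
  have hQp : IsPGroup q Q := (isPGroup_pCore (G := C) q).map C.subtype
  have hle_Q : ∀ N : Subgroup G, N.Normal → N ≤ C → IsPGroup q N → N ≤ Q := by
    intro N hN hNC hNp
    haveI := hN
    have h1 : N.subgroupOf C ≤ pCore q C := le_pCore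
      (hNp.of_equiv (Subgroup.subgroupOfEquivOfLe hNC).symm)
    intro x hx
    exact ⟨⟨x, hNC hx⟩, h1 (Subgroup.mem_subgroupOf.2 hx), rfl⟩
  have hAQ : A ≤ Q := hle_Q A hA.normal hAC hA.isPGroup
  have hself : ∀ c ∈ C, (∀ x ∈ Q, x * c = c * x) → c ∈ Q := by
    intro c hc hcomm
    have h1 : (⟨c, hc⟩ : C) ∈ pCore q C := by
      refine centralizer_pCore_le hq hcoreC (Subgroup.mem_centralizer_iff.2 fun y hy => ?_)
      exact Subtype.ext (hcomm y ⟨y, hy, rfl⟩)
    exact ⟨⟨c, hc⟩, h1, rfl⟩
  obtain ⟨j, hj⟩ := IsPGroup.iff_card.1 hQp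
  -- `|Q| = q³`
  have hCv : (Nat.card C).factorization q = 3 := by
    have h1 := congrArg (fun n => n.factorization q) C.card_mul_index
    simp only [Nat.factorization_mul Nat.card_pos.ne' Subgroup.index_ne_zero_of_finite,
      Finsupp.add_apply, hv4] at h1
    have h2 : C.index.factorization q = 1 := by
      have hpos := (Nat.Prime.dvd_iff_one_le_factorization hq Subgroup.index_ne_zero_of_finite).1 hdvd
      by_contra hne
      exact sq_not_dvd_gl2 hq (((Nat.Prime.pow_dvd_iff_le_factorization hq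
        Subgroup.index_ne_zero_of_finite).2 (show 2 ≤ C.index.factorization q by omega)).trans hidx)
    omega
  have hj3 : j = 3 := by
    have hle : q ^ j ∣ Nat.card C := hj ▸ Subgroup.card_dvd_of_le hQC
    rw [Nat.Prime.pow_dvd_iff_le_factorization hq Nat.card_pos.ne', hCv] at hle
    have h2 : q ^ 2 ∣ q ^ j := hAc ▸ hj ▸ Subgroup.card_dvd_of_le hAQ
    rw [Nat.pow_dvd_pow_iff_le_right hq.one_lt] at h2
    by_contra hne
    have hj2 : j = 2 := by omega
    have hAeq : A = Q := Subgroup.eq_of_le_of_card_ge hAQ (by rw [hj, hj2, hAc])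
    have hCQ : C ≤ Q := fun c hc => hself c hc fun x hx => by
      rw [← hAeq] at hx
      exact Subgroup.mem_centralizer_iff.1 hc x hx
    rw [le_antisymm hCQ hQC, hj, hj2, Nat.Prime.factorization_pow hq, Finsupp.single_eq_same] at hCv
    omega
  subst hj3
  -- the quotient `Q / A`
  set A' := A.subgroupOf Q with hA'
  have hQA : Nat.card (↥Q ⧸ A') = q := by
    have h1 := Subgroup.card_eq_card_quotient_mul_card_subgroup A'
    rw [hj, Nat.card_congr (Subgroup.subgroupOfEquivOfLe hAQ).toEquiv, hAc, pow_succ', ] at h1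
    exact (Nat.eq_of_mul_eq_mul_right (pow_pos hq.pos 2) h1).symm
  haveI : IsCyclic (↥Q ⧸ A') := isCyclic_of_prime_card hQA
  have hQab : ∀ x ∈ Q, ∀ y ∈ Q, x * y = y * x := by
    have hle : (QuotientGroup.mk' A').ker ≤ Subgroup.center Q := by
      rw [QuotientGroup.ker_mk']
      intro a ha
      rw [Subgroup.mem_center_iff]
      intro x
      exact Subtype.ext (Subgroup.mem_centralizer_iff.1 (hQC x.2) _ (Subgroup.mem_subgroupOf.1 ha)).symm
    intro x hx y hy
    exact congrArg Subtype.val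
      (((QuotientGroup.mk' A').isMulCommutative_of_isCyclic_of_ker_le_center hle).is_comm.comm ⟨x, hx⟩ ⟨y, hy⟩)
  have hpowA : ∀ x ∈ Q, x ^ q ∈ A := by
    intro x hx
    have h1 : (QuotientGroup.mk (s := A') (⟨x, hx⟩ : Q)) ^ q = 1 := by
      rw [← hQA]; exact pow_card_eq_one'
    rw [← QuotientGroup.mk_pow, QuotientGroup.eq_one_iff, Subgroup.mem_subgroupOf] at h1
    exact h1
  -- `Q` is elementary
  have hexp : ∀ x ∈ Q, x ^ q = 1 := by
    let f : Q →* G :=
      { toFun := fun x => (x : G) ^ q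
        map_one' := one_pow q
        map_mul' := fun a b => by
          rw [Subgroup.coe_mul, (show Commute (a : G) b from hQab a a.2 b b.2).mul_pow] }
    haveI : f.range.Normal := ⟨by
      rintro _ ⟨x, rfl⟩ g
      exact ⟨⟨g * x * g⁻¹, hQn.conj_mem x x.2 g⟩, by
        show (g * (x : G) * g⁻¹) ^ q = g * (x : G) ^ q * g⁻¹
        rw [conj_pow]⟩⟩
    have hle : f.range ≤ A := by rintro _ ⟨x, rfl⟩; exact hpowA x x.2
    have hsmall : Nat.card f.range ≤ q := by
      rw [← Subgroup.index_ker]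
      refine Nat.le_of_dvd hq.pos ?_
      rw [← hQA]
      exact Subgroup.index_dvd_of_le fun a ha => by
        rw [MonoidHom.mem_ker]
        exact hA.exp _ (Subgroup.mem_subgroupOf.1 ha)
    intro x hx
    rcases hA.min f.range inferInstance hle with h | h
    · have : f ⟨x, hx⟩ ∈ f.range := ⟨_, rfl⟩
      rw [h, Subgroup.mem_bot] at this
      exact this
    · exfalso
      rw [h, hAc] at hsmall
      have := Nat.pow_lt_pow_right hq.one_lt (show 1 < 2 by norm_num)
      rw [pow_one] at this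
      omega
  -- commutators act trivially on `Q / A`
  have hcong : ∀ g : G, A'.map (MulAut.conjNormal (H := Q) g).toMonoidHom = A' := by
    intro g
    ext x
    constructor
    · rintro ⟨y, hy, rfl⟩
      rw [Subgroup.mem_subgroupOf]
      show ((MulAut.conjNormal g y : Q) : G) ∈ A
      rw [MulAut.conjNormal_apply]
      exact hA.normal.conj_mem _ hy g
    · intro hx
      refine ⟨MulAut.conjNormal g⁻¹ x, ?_, ?_⟩
      · rw [SetLike.mem_coe, Subgroup.mem_subgroupOf, MulAut.conjNormal_apply]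
        exact hA.normal.conj_mem _ hx g⁻¹
      · show MulAut.conjNormal g (MulAut.conjNormal g⁻¹ x) = x
        rw [← MulAut.mul_apply, ← map_mul, mul_inv_cancel, map_one, MulAut.one_apply]
  let ψ : G →* MulAut (↥Q ⧸ A') :=
    { toFun := fun g => QuotientGroup.congr A' A' (MulAut.conjNormal g) (hcong g)
      map_one' := MulEquiv.ext fun q' => by
        induction q' using QuotientGroup.induction_on with
        | _ x =>
          show (QuotientGroup.mk (MulAut.conjNormal (1 : G) x) : ↥Q ⧸ A') = QuotientGroup.mk x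
          rw [map_one]; rfl
      map_mul' := fun a b => MulEquiv.ext fun q' => by
        induction q' using QuotientGroup.induction_on with
        | _ x =>
          show (QuotientGroup.mk (MulAut.conjNormal (a * b) x) : ↥Q ⧸ A') =
            QuotientGroup.mk (MulAut.conjNormal a (MulAut.conjNormal b x))
          rw [map_mul]; rfl }
  have hder : ∀ g ∈ commutator G, ∀ x ∈ Q, g * x * g⁻¹ * x⁻¹ ∈ A := by
    intro g hg x hx
    have hg1 : ψ g = 1 := by
      have hle : commutator G ≤ ψ.ker := by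
        rw [commutator_def, Subgroup.commutator_le]
        intro a _ b _
        rw [MonoidHom.mem_ker, map_commutatorElement, commutatorElement_eq_one_iff_mul_comm]
        exact mulAut_comm_of_prime hQA _ _
      exact MonoidHom.mem_ker.1 (hle hg)
    have h1 := DFunLike.congr_fun hg1 (QuotientGroup.mk (⟨x, hx⟩ : Q))
    rw [MulAut.one_apply] at h1
    change (QuotientGroup.mk (MulAut.conjNormal g (⟨x, hx⟩ : Q)) : ↥Q ⧸ A') = _ at h1
    rw [eq_comm, QuotientGroup.eq, Subgroup.mem_subgroupOf] at h1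
    have h2 : x⁻¹ * (g * x * g⁻¹) ∈ A := by simpa using h1
    have h3 := hA.normal.conj_mem _ h2 x
    simpa [mul_assoc] using h3
  -- the elements of `C` trivial on `Q / A` centralise `Q`
  let Dd : Subgroup G :=
    { carrier := {c | c ∈ C ∧ ∀ x ∈ Q, c * x * c⁻¹ * x⁻¹ ∈ A}
      one_mem' := ⟨one_mem C, fun x _ => by simp⟩
      mul_mem' := fun {a b} ha hb => ⟨mul_mem ha.1 hb.1, fun x hx => by
        rw [show a * b * x * (a * b)⁻¹ * x⁻¹ =
          (a * (b * x * b⁻¹) * a⁻¹ * (b * x * b⁻¹)⁻¹) * (b * x * b⁻¹ * x⁻¹) by group]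
        exact mul_mem (ha.2 _ (hQn.conj_mem x hx b)) (hb.2 x hx)⟩
      inv_mem' := fun {a} ha => ⟨inv_mem ha.1, fun x hx => by
        have h1 := ha.2 _ (hQn.conj_mem x hx a⁻¹)
        simp only [inv_inv] at h1
        have h2 := inv_mem h1
        rw [inv_inv]
        simpa [mul_assoc] using h2⟩ }
  haveI hDn : Dd.Normal := ⟨fun c hc g => ⟨Subgroup.Normal.conj_mem inferInstance c hc.1 g,
    fun x hx => by
      have h1 := hc.2 _ (hQn.conj_mem x hx g⁻¹)
      have h2 := hA.normal.conj_mem _ h1 g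
      simp only [inv_inv] at h2
      rw [show g * c * g⁻¹ * x * (g * c * g⁻¹)⁻¹ * x⁻¹ =
        g * (c * (g⁻¹ * x * g) * c⁻¹ * (g⁻¹ * x * g)⁻¹) * g⁻¹ by group]
      exact h2⟩⟩
  have hDQ : Dd ≤ Q := by
    refine hle_Q Dd hDn (fun c hc => hc.1) ?_
    intro c
    refine ⟨2, Subtype.ext ?_⟩
    obtain ⟨hcC, hcD⟩ := c.2
    have hq' : (c : G) ^ q ∈ Q := by
      refine hself _ (pow_mem hcC q) fun x hx => ?_
      set a := (c : G) * x * (c : G)⁻¹ * x⁻¹ with ha
      have haA : a ∈ A := hcD x hx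
      have hstep : ∀ n : ℕ, (c : G) ^ n * x * ((c : G) ^ n)⁻¹ = a ^ n * x := by
        intro n
        induction n with
        | zero => simp
        | succ n ih =>
          rw [pow_succ', show (c : G) * (c : G) ^ n * x * ((c : G) * (c : G) ^ n)⁻¹ =
            (c : G) * ((c : G) ^ n * x * ((c : G) ^ n)⁻¹) * (c : G)⁻¹ by group, ih,
            show (c : G) * (a ^ n * x) * (c : G)⁻¹ =
              ((c : G) * a ^ n * (c : G)⁻¹) * ((c : G) * x * (c : G)⁻¹) by group,
            hCA _ hcC _ (pow_mem haA n),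
            show (c : G) * x * (c : G)⁻¹ = a * x by rw [ha]; group, ← mul_assoc, ← pow_succ]
      have := hstep q
      rw [hA.exp a haA, one_mul] at this
      calc x * (c : G) ^ q = (c : G) ^ q * x * ((c : G) ^ q)⁻¹ * (c : G) ^ q := by rw [this]
        _ = (c : G) ^ q * x := by group
    rw [SubgroupClass.coe_pow, pow_two, pow_mul, hexp _ hq', Subgroup.coe_one]
  -- an element inverting `A`, trivial on `Q / A`
  obtain ⟨φ, hker, hneg⟩ := exists_gl2_rep A hA.comm hA.exp hAc
  obtain ⟨g, hgG, hginv⟩ : ∃ g ∈ commutator G, ∀ a ∈ A, g * a * g⁻¹ = a⁻¹ := by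
    haveI : Finite (GL (Fin 2) (ZMod q)) := inferInstance
    set ρ := φ.comp (commutator G).subtype with hρ
    have hns : ¬ Group.IsSolvable ρ.range := by
      intro hsol
      haveI : Group.IsSolvable ρ.ker := by
        refine Group.isSolvable_of_isSolvable_injective
          (f := ((commutator G).subtype.comp ρ.ker.subtype).codRestrict C fun x => ?_) ?_
        · show ((x : commutator G) : G) ∈ C
          rw [hC, ← hker]
          exact x.2
        · intro a b hab
          exact Subtype.ext (Subtype.ext (congrArg (Subtype.val : C → G) hab))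
      haveI : Group.IsSolvable (commutator G) :=
        Group.isSolvable_of_ker_le_range ρ.ker.subtype ρ.rangeRestrict
          (by rw [MonoidHom.ker_rangeRestrict, Subgroup.range_subtype])
      refine D.ns (Group.isSolvable_of_ker_le_range (commutator G).subtype
        (Abelianization.of (G := G)) ?_)
      rw [Abelianization.ker_of, Subgroup.range_subtype]
    have heven : 2 ∣ Nat.card ρ.range := by
      by_contra hodd
      exact hns (CfsgLib.OddOrder.feitThompson
        (Nat.not_even_iff_odd.1 fun he => hodd (even_iff_two_dvd.1 he)))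
    haveI := Fact.mk Nat.prime_two
    obtain ⟨⟨t, ⟨⟨g, hg⟩, rfl⟩⟩, ht⟩ := exists_prime_orderOf_dvd_card' 2 heven
    refine ⟨g, hg, hneg g ?_⟩
    rw [orderOf_eq_prime_iff] at ht
    obtain ⟨hsq, hne⟩ := ht
    have hsq' : (φ g) ^ 2 = 1 := congrArg Subtype.val hsq
    have hne' : φ g ≠ 1 := fun h1 => hne (Subtype.ext h1)
    refine eq_neg_one_of_sq (fun h2 => ?_) _ ?_ ?_ fun h1 => hne' (Units.ext h1)
    · have : (q : ℕ) ∣ 2 := (CharP.cast_eq_zero_iff (ZMod q) q 2).1 (by exact_mod_cast h2)
      have := Nat.le_of_dvd (by norm_num) this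
      omega
    · rw [← Units.val_mul, ← pow_two, hsq', Units.val_one]
    · have hd : (Matrix.GeneralLinearGroup.det.comp φ) g = 1 :=
        MonoidHom.mem_ker.1 (Abelianization.commutator_subset_ker _ hg)
      exact congrArg Units.val hd
  -- its fixed points on `Q`
  let δ : Q →* G :=
    { toFun := fun x => g * x * g⁻¹ * (x : G)⁻¹
      map_one' := by simp
      map_mul' := fun x y => by
        have hy : g * (y : G) * g⁻¹ * (y : G)⁻¹ ∈ Q :=
          mul_mem (hQn.conj_mem y y.2 g) (inv_mem y.2)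
        rw [Subgroup.coe_mul]
        have e : g * ((x : G) * y) * g⁻¹ * ((x : G) * y)⁻¹ =
            g * x * g⁻¹ * (g * y * g⁻¹ * (y : G)⁻¹ * (x : G)⁻¹) := by group
        rw [e, hQab _ hy _ (inv_mem x.2)]
        group }
  set B := δ.ker.map Q.subtype with hB
  have hmemB : ∀ x, x ∈ B ↔ x ∈ Q ∧ g * x * g⁻¹ = x := by
    intro x
    constructor
    · rintro ⟨y, hy, rfl⟩
      exact ⟨y.2, mul_inv_eq_one.1 (MonoidHom.mem_ker.1 hy)⟩
    · rintro ⟨hx, he⟩
      exact ⟨⟨x, hx⟩, MonoidHom.mem_ker.2 (mul_inv_eq_one.2 he), rfl⟩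
  have hBA : ∀ x ∈ B, x ∈ A → x = 1 := by
    intro x hx hxA
    have h1 := ((hmemB x).1 hx).2
    rw [hginv x hxA] at h1
    have h2 : x ^ 2 = 1 := by rw [pow_two]; exact inv_eq_iff_mul_eq_one.1 h1
    have h3 := pow_gcd_eq_one.2 ⟨h2, hA.exp x hxA⟩
    rwa [(Nat.coprime_primes Nat.prime_two hq).2 (by omega), pow_one] at h3
  haveI hBn : B.Normal := ⟨fun x hx h => by
    obtain ⟨hxQ, hxg⟩ := (hmemB x).1 hx
    refine (hmemB _).2 ⟨hQn.conj_mem x hxQ h, ?_⟩
    set d := g⁻¹ * (h⁻¹ * g * h) with hd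
    have hgh : h⁻¹ * g * h ∈ commutator G := by
      simpa using Subgroup.Normal.conj_mem (inferInstance : (commutator G).Normal) g hgG h⁻¹
    have hdG : d ∈ commutator G := mul_mem (inv_mem hgG) hgh
    have hdC : d ∈ C := by
      rw [hC, Subgroup.mem_centralizer_iff]
      intro a ha
      have h1 : h⁻¹ * g * h * a * (h⁻¹ * g * h)⁻¹ = a⁻¹ := by
        rw [show h⁻¹ * g * h * a * (h⁻¹ * g * h)⁻¹ = h⁻¹ * (g * (h * a * h⁻¹) * g⁻¹) * h by group,
          hginv _ (hA.normal.conj_mem a ha h)]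
        group
      have h2 : g⁻¹ * a⁻¹ * g = a := by
        have h3 := hginv a ha
        rw [← h3]; group
      calc a * d = g⁻¹ * a⁻¹ * g * d := by rw [h2]
        _ = g⁻¹ * (h⁻¹ * g * h * a * (h⁻¹ * g * h)⁻¹) * (h⁻¹ * g * h) := by rw [h1, hd]; group
        _ = d * a := by rw [hd]; group
    have hdQ : d ∈ Q := hDQ ⟨hdC, hder d hdG⟩
    have hfix : d * x * d⁻¹ = x := by rw [hQab d hdQ x hxQ, mul_inv_cancel_right]
    calc g * (h * x * h⁻¹) * g⁻¹
        = h * (g * (d * x * d⁻¹) * g⁻¹) * h⁻¹ := by rw [hd]; group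
      _ = h * x * h⁻¹ := by rw [hfix, hxg]⟩
  have hB0 : B ≠ ⊥ := by
    intro h0
    have hinj : δ.ker = ⊥ := (Subgroup.map_eq_bot_iff_of_injective _ Q.subtype_injective).1 h0
    have hle : δ.range ≤ A := by
      rintro _ ⟨x, rfl⟩
      exact hder g hgG x x.2
    have h1 := Subgroup.card_le_of_le hle
    rw [← Subgroup.index_ker, hinj, Subgroup.index_bot, hj, hAc] at h1
    have := Nat.pow_lt_pow_right hq.one_lt (show 2 < 3 by norm_num)
    omega
  obtain ⟨E, r, hEn, hEB, hE0, hr, hEc, hEe, hEmin⟩ := exists_elem_minNormal_le hBn hB0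
    (Group.isSolvable_of_comm fun a b => Subtype.ext
      (hQab a ((hmemB _).1 a.2).1 b ((hmemB _).1 b.2).1))
  have hElem : Elem E r := ⟨hEn, hE0, hEc, hEe, hEmin⟩
  have hqr := D.prime_eq hq hr hA hElem
  subst hqr
  obtain ⟨-, -, -, -, -, hEc2, -, -, -, -⟩ := D.facts hq hElem
  have hinj : Function.Injective (fun p : A × E => (⟨(p.1 : G) * p.2,
      mul_mem (hAQ p.1.2) ((hmemB _).1 (hEB p.2.2)).1⟩ : Q)) := by
    intro p p' he
    refine Subgroup.mul_injective_of_disjoint ?_ (congrArg Subtype.val he)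
    rw [Subgroup.disjoint_def]
    exact fun hxA hxE => hBA _ (hEB hxE) hxA
  have h1 := Nat.card_le_card_of_injective _ hinj
  rw [Nat.card_prod, hAc, hEc2, hj, ← pow_add, show 2 + 2 = 4 from rfl] at h1
  have := Nat.pow_lt_pow_right hq.one_lt (show 3 < 4 by norm_num)
  omega

/-- The solvable radical is trivial. -/
theorem Sit.normal_solvable_eq_bot (D : Sit G) (N : Subgroup G) (hN : N.Normal)
    (hsol : Group.IsSolvable N) : N = ⊥ := by
  by_contra hne
  obtain ⟨A, q, hAn, -, hA0, hq, hc, he, hmin⟩ := exists_elem_minNormal_le hN hne hsol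
  exact D.false_of_elem hq ⟨hAn, hA0, hc, he, hmin⟩

end CfsgLib.CentralTypeSmall
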