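import Cfsg.Agent.Lib.CentralTypeSmall.SimpleList
import Cfsg.Agent.Lib.AltCover.Involutions
import Cfsg.Agent.Lib.UnitaryFourSylow
import Cfsg.Agent.Lib.Transfer
import Cfsg.Agent.S0516
import Cfsg.Agent.S2911

/-!
# Simple groups whose Sylow two-subgroups have order at most sixteen
-/

namespace CfsgLib.CentralTypeSmall

open Cfsg CfsgLib
open scoped commutatorElement

set_option linter.unusedSectionVars false
set_option linter.style.haveILetI false
set_option linter.unusedVariables false

universe u

variable {T : Type u} [Group T] [Finite T] [IsSimpleGroup T]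

theorem not_two_group (hna : ¬ IsMulCommutative T) : ¬ IsPGroup 2 T := fun h => by
  haveI := Fact.mk Nat.prime_two
  haveI := h.center_nontrivial
  rcases Subgroup.Normal.eq_bot_or_eq_top (inferInstance : (Subgroup.center T).Normal) with e | e
  · exact (Subgroup.nontrivial_iff_ne_bot _).1 inferInstance e
  · exact hna ⟨⟨fun u v => Subgroup.mem_center_iff.1 (e ▸ Subgroup.mem_top v) u⟩⟩

theorem no_index_two (hna : ¬ IsMulCommutative T) (H : Subgroup T) : H.index ≠ 2 := fun hH => by
  rcases (Subgroup.normal_of_index_eq_two hH).eq_bot_or_eq_top with e | e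
  · rw [e, Subgroup.index_bot] at hH
    haveI : Fact (Nat.Prime 2) := ⟨Nat.prime_two⟩
    haveI := isCyclic_of_prime_card hH
    exact hna inferInstance
  · rw [e, Subgroup.index_top] at hH; omega

theorem card_lt_of_lt {G : Type u} [Group G] [Finite G] {A B : Subgroup G} (h : A < B) :
    Nat.card A < Nat.card B :=
  lt_of_le_of_ne (Subgroup.card_le_of_le h.le) fun he => h.ne (Subgroup.eq_of_le_of_card_ge h.le he.ge)

/-- The shape of a semidihedral group of order sixteen. -/
def SixteenSD (S : Subgroup T) : Prop :=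
  Nat.card S = 16 ∧ ∃ x y : T, x ∈ S ∧ y ∈ S ∧ orderOf x = 8 ∧ orderOf y = 2 ∧
    y * x * y⁻¹ = x ^ 3 ∧ y ∉ Subgroup.zpowers x

/-- An elementary subgroup of index two contains no fusion focus. -/
theorem exists_involution_outside (hna : ¬ IsMulCommutative T) (S : Sylow 2 T) (E : Subgroup T)
    (hES : E ≤ (S : Subgroup T)) (hidx : E.relIndex (S : Subgroup T) = 2)
    (hexp : ∀ a ∈ E, a * a = 1) : ∃ w ∈ (S : Subgroup T), w ∉ E ∧ w * w = 1 := by
  by_contra hall
  push Not at hall
  haveI := Fact.mk Nat.prime_two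
  have hiff : ∀ z ∈ (S : Subgroup T), (z ∈ E ↔ z * z = 1) := fun z hz =>
    ⟨fun h => hexp z h, fun h => by_contra fun h' => hall z hz h' h⟩
  have hres : Cfsg.pResidual 2 T = ⊤ := by
    refine (Subgroup.Normal.eq_bot_or_eq_top (inferInstance : (Cfsg.pResidual 2 T).Normal)).resolve_left
      fun h => not_two_group hna ?_
    refine IsPGroup.iff_card.2 ⟨(Nat.card T).primeFactorsList.length,
      Nat.eq_prime_pow_of_unique_prime_dvd Nat.card_pos.ne' fun {d} hd hdd => ?_⟩
    by_contra hd2
    haveI := Fact.mk hd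
    obtain ⟨g, hg⟩ := exists_prime_orderOf_dvd_card' d hdd
    have hmem : g ∈ Cfsg.pResidual 2 T :=
      Subgroup.subset_closure (show Nat.Coprime (orderOf g) 2 by
        rw [hg]; exact (Nat.coprime_primes hd Nat.prime_two).2 hd2)
    rw [h, Subgroup.mem_bot] at hmem
    rw [hmem, orderOf_one] at hg
    exact hd.one_lt.ne hg
  have hfoc := CfsgLib.Transfer.focalSubgroup_eq_of_pResidual_eq_top S hres
  have hle : (S : Subgroup T).focalSubgroup ≤ E := by
    rw [Subgroup.focalSubgroup_def, Subgroup.closure_le]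
    rintro g ⟨hgS, x, hxS, v, rfl⟩
    set g := ⁅x, v⁆ with hg
    have hy : v * x⁻¹ * v⁻¹ = x⁻¹ * g := by rw [hg, commutatorElement_def]; group
    have hyS : x⁻¹ * g ∈ (S : Subgroup T) := mul_mem (inv_mem hxS) hgS
    have hsq : (x⁻¹ * g) * (x⁻¹ * g) = 1 ↔ x⁻¹ * x⁻¹ = 1 := by
      rw [← hy, show v * x⁻¹ * v⁻¹ * (v * x⁻¹ * v⁻¹) = v * (x⁻¹ * x⁻¹) * v⁻¹ by group,
        mul_inv_eq_one, mul_eq_left]
    have h1 : (x⁻¹ * g ∈ E) ↔ (x⁻¹ ∈ E) := by
      rw [hiff _ hyS, hiff _ (inv_mem hxS), hsq]
    have h2 := (Subgroup.mul_mem_iff_of_index_two (H := E.subgroupOf (S : Subgroup T)) hidx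
      (a := ⟨x⁻¹, inv_mem hxS⟩) (b := ⟨g, hgS⟩))
    simp only [Subgroup.mem_subgroupOf, Subgroup.coe_mul] at h2
    rw [h1] at h2
    by_cases hx : x⁻¹ ∈ E
    · exact (h2.1 hx).1 hx
    · by_contra hgE
      exact hx (h2.2 ⟨fun h => absurd h hx, fun h => absurd h hgE⟩)
  rw [hfoc] at hle
  have := Subgroup.relIndex_eq_one.2 hle
  omega

/-- An elementary subgroup of order eight and an involution outside it give `C₂ × D₈`. -/
theorem prod_dihedral_of_involution {G : Type u} [Group G] [Finite G] (S E : Subgroup G)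
    (hS : Nat.card S = 16) (hE : Nat.card E = 8) (hES : E ≤ S) (hexp : ∀ a ∈ E, a * a = 1)
    (hab : ∀ a ∈ E, ∀ b ∈ E, a * b = b * a) (hnc : ¬ IsMulCommutative S) {w : G} (hwS : w ∈ S)
    (hwE : w ∉ E) (hw : w * w = 1) :
    Nonempty (S ≃* Multiplicative (ZMod 2) × DihedralGroup 4) := by
  classical
  have hwi : w⁻¹ = w := inv_eq_of_mul_eq_one_right hw
  have hidx : E.relIndex S = 2 := by
    have h := Subgroup.card_mul_index (E.subgroupOf S)
    rw [Nat.card_congr (Subgroup.subgroupOfEquivOfLe hES).toEquiv, hE, hS] at h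
    show (E.subgroupOf S).index = 2
    omega
  haveI := Subgroup.normal_of_index_eq_two (H := E.subgroupOf S) hidx
  have hconj : ∀ a ∈ E, w * a * w ∈ E := fun a ha => by
    have := Subgroup.Normal.conj_mem (inferInstance : (E.subgroupOf S).Normal) ⟨a, hES ha⟩
      (Subgroup.mem_subgroupOf.2 ha) ⟨w, hwS⟩
    simpa [Subgroup.mem_subgroupOf, hwi] using this
  have hinvE : ∀ a ∈ E, a⁻¹ = a := fun a ha => inv_eq_of_mul_eq_one_right (hexp a ha)
  let δ : E →* E :=
    { toFun := fun a => ⟨(a : G) * (w * a * w), mul_mem a.2 (hconj a a.2)⟩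
      map_one' := Subtype.ext (by simp [hw])
      map_mul' := fun a b => Subtype.ext (by
        show (a : G) * b * (w * (a * b) * w) = a * (w * a * w) * (b * (w * b * w))
        rw [show w * ((a : G) * b) * w = w * a * w * (w * b * w) by
          rw [show w * (a : G) * w * (w * b * w) = w * a * (w * w) * b * w by group, hw]; group]
        rw [mul_assoc (a : G), ← mul_assoc (b : G), hab _ b.2 _ (hconj a a.2)]
        group) }
  have hδ : ∀ a : E, ((δ a : E) : G) = a * (w * a * w) := fun a => rfl
  have hker : ∀ a : E, a ∈ δ.ker ↔ w * (a : G) = a * w := by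
    intro a
    rw [MonoidHom.mem_ker, Subtype.ext_iff, hδ, Subgroup.coe_one, mul_eq_one_iff_inv_eq,
      hinvE _ a.2]
    constructor
    · intro h
      conv_rhs => rw [h]
      rw [show w * (a : G) * w * w = w * a * (w * w) by group, hw, mul_one]
    · intro h
      rw [h, mul_assoc, hw, mul_one]
  have hrange : δ.range ≤ δ.ker := by
    rintro _ ⟨a, rfl⟩
    rw [hker, hδ]
    calc w * ((a : G) * (w * a * w)) = (w * a * w) * a * w := by group
      _ = (a : G) * (w * a * w) * w := by rw [hab _ (hconj a a.2) _ a.2]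
  have hprod : Nat.card δ.ker * Nat.card δ.range = 8 := by
    rw [← Subgroup.index_ker, Subgroup.card_mul_index, hE]
  have hne : δ.ker ≠ ⊤ := by
    intro htop
    refine hnc ⟨⟨fun u v => Subtype.ext ?_⟩⟩
    have hcw : ∀ a ∈ E, w * a = a * w := fun a ha =>
      (hker ⟨a, ha⟩).1 (htop ▸ Subgroup.mem_top _)
    have hdec : ∀ z : S, (z : G) ∈ E ∨ w * (z : G) ∈ E := by
      intro z
      by_cases hz : (z : G) ∈ E
      · exact Or.inl hz
      · refine Or.inr ?_
        have := (Subgroup.mul_mem_iff_of_index_two (H := E.subgroupOf S) hidx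
          (a := ⟨w, hwS⟩) (b := z)).2 (by simp [Subgroup.mem_subgroupOf, hwE, hz])
        exact this
    have hcomm : ∀ z : S, ∀ a ∈ E, (z : G) * a = a * z := by
      intro z a ha
      rcases hdec z with hz | hz
      · exact hab _ hz _ ha
      · have e : (z : G) = w * (w * z) := by rw [← mul_assoc, hw, one_mul]
        rw [e, mul_assoc, hab _ hz _ ha, ← mul_assoc, hcw a ha, mul_assoc]
    rcases hdec v with hv | hv
    · exact hcomm u _ hv
    · have e : (v : G) = w * (w * v) := by rw [← mul_assoc, hw, one_mul]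
      have hcw' : (u : G) * w = w * u := by
        rcases hdec u with hu | hu
        · exact (hcw _ hu).symm
        · have e' : (u : G) = w * (w * u) := by rw [← mul_assoc, hw, one_mul]
          have h := hcw _ hu
          calc (u : G) * w = w * ((w * u) * w) := by rw [← mul_assoc w (w * (u : G)), ← e']
            _ = w * u := by rw [← h, ← mul_assoc w w, hw, one_mul]
      show (u : G) * v = v * u
      rw [e, ← mul_assoc, hcw', mul_assoc, hcomm u _ hv, ← mul_assoc]
  have hkle : Nat.card δ.range ≤ Nat.card δ.ker := Subgroup.card_le_of_le hrange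
  have hklt : Nat.card δ.ker < 8 := by
    by_contra hge
    exact hne (Subgroup.eq_top_of_card_eq _ (le_antisymm
      (Subgroup.card_le_card_group _) (hE ▸ not_lt.1 hge)))
  have hk4 : Nat.card δ.ker = 4 := by
    have hd : Nat.card δ.ker ∣ 8 := Dvd.intro _ hprod
    have hd' : Nat.card δ.ker ∈ Nat.divisors 8 := Nat.mem_divisors.2 ⟨hd, by norm_num⟩
    rw [show Nat.divisors 8 = {1, 2, 4, 8} by decide] at hd'
    simp only [Finset.mem_insert, Finset.mem_singleton] at hd'
    rcases hd' with h | h | h | h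
    · rw [h] at hprod hkle; omega
    · rw [h] at hprod hkle; omega
    · exact h
    · omega
  obtain ⟨e, he⟩ : ∃ e : E, e ∉ δ.ker := by
    by_contra hall
    push Not at hall
    exact hne ((Subgroup.eq_top_iff' _).2 hall)
  set c : E := δ e with hc
  have hc1 : c ≠ 1 := fun h => he (MonoidHom.mem_ker.2 h)
  have hck : c ∈ δ.ker := hrange ⟨e, rfl⟩
  obtain ⟨f, hfk, hf1, hfc⟩ : ∃ f : E, f ∈ δ.ker ∧ f ≠ 1 ∧ f ≠ c := by
    by_contra hall
    push Not at hall
    have hsub : (δ.ker : Set E) ⊆ ({1, c} : Set E) := fun z hz => by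
      by_cases hz1 : z = 1
      · exact Or.inl hz1
      · exact Or.inr (hall z hz hz1)
    have h1 := Set.ncard_le_ncard hsub (Set.toFinite _)
    have h2 : ({1, c} : Set E).ncard ≤ 2 := (Set.ncard_insert_le _ _).trans (by simp)
    rw [← Nat.card_coe_set_eq, SetLike.coe_sort_coe, hk4] at h1
    omega
  -- the homomorphism
  set r : S := ⟨(e : G) * w, mul_mem (hES e.2) hwS⟩ with hr
  set s : S := ⟨w, hwS⟩ with hs
  have hrr : ((r * r : S) : G) = (c : G) := by
    show (e : G) * w * ((e : G) * w) = _
    rw [hc, hδ]; group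
  have hcc : (c : G) * c = 1 := hexp _ c.2
  have hr4 : r ^ 4 = 1 := Subtype.ext (by
    rw [show r ^ 4 = (r * r) * (r * r) by rw [← pow_two, ← pow_two, ← pow_mul], Subgroup.coe_mul, hrr,
      hcc, Subgroup.coe_one])
  have hs2 : s * s = 1 := Subtype.ext hw
  have hsr : s * r * s = r⁻¹ := Subtype.ext (by
    show w * ((e : G) * w) * w = ((e : G) * w)⁻¹
    rw [mul_inv_rev, hwi, hinvE _ e.2, mul_assoc, mul_assoc (e : G), hw, mul_one])
  obtain ⟨ψ, hψr, hψs⟩ := CfsgAltCover.exists_dihedralHom hr4 hs2 hsr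
  set ff : S := ⟨(f : G), hES f.2⟩ with hff
  have hff2 : ff * ff = 1 := Subtype.ext (hexp _ f.2)
  let φ : Multiplicative (ZMod 2) →* S :=
    { toFun := fun a => if Multiplicative.toAdd a = 0 then 1 else ff
      map_one' := by simp
      map_mul' := fun a b => by
        obtain ⟨a, rfl⟩ := Multiplicative.ofAdd.surjective a
        obtain ⟨b, rfl⟩ := Multiplicative.ofAdd.surjective b
        show (if a + b = 0 then 1 else ff) = (if a = 0 then 1 else ff) * (if b = 0 then 1 else ff)
        rcases (by decide : ∀ x : ZMod 2, x = 0 ∨ x = 1) a with rfl | rfl <;>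
          rcases (by decide : ∀ x : ZMod 2, x = 0 ∨ x = 1) b with rfl | rfl <;>
          simp [hff2, show (1 : ZMod 2) + 1 = 0 from rfl] }
  have hfcomm : ∀ z : DihedralGroup 4, Commute ff (ψ z) := by
    have hfw : Commute ff s := Subtype.ext ((hker f).1 hfk).symm
    have hfr : Commute ff r := Subtype.ext (by
      show (f : G) * ((e : G) * w) = (e : G) * w * f
      rw [← mul_assoc, hab _ f.2 _ e.2, mul_assoc, mul_assoc, (hker f).1 hfk])
    intro z
    cases z with
    | r i =>
      rw [show DihedralGroup.r i = DihedralGroup.r 1 ^ i.val by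
        rw [DihedralGroup.r_one_pow, ZMod.natCast_zmod_val], map_pow, hψr]
      exact hfr.pow_right _
    | sr i =>
      rw [show DihedralGroup.sr i = DihedralGroup.sr 0 * DihedralGroup.r 1 ^ i.val by
        rw [DihedralGroup.r_one_pow, ZMod.natCast_zmod_val, DihedralGroup.sr_mul_r, zero_add],
        map_mul, map_pow, hψr, hψs]
      exact hfw.mul_right (hfr.pow_right _)
  let Φ : Multiplicative (ZMod 2) × DihedralGroup 4 →* S :=
    φ.noncommCoprod ψ fun a z => by
      show Commute (if Multiplicative.toAdd a = 0 then 1 else ff) (ψ z)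
      split_ifs
      · exact Commute.one_left _
      · exact hfcomm z
  have hsurj : Function.Surjective Φ := by
    rw [← MonoidHom.range_eq_top]
    set R := Φ.range.map S.subtype with hR
    have hwR : w ∈ R := ⟨s, ⟨(1, .sr 0), by
      show φ 1 * ψ (.sr 0) = s
      rw [map_one, one_mul, hψs]⟩, rfl⟩
    have hewR : (e : G) * w ∈ R := ⟨r, ⟨(1, .r 1), by
      show φ 1 * ψ (.r 1) = r
      rw [map_one, one_mul, hψr]⟩, rfl⟩
    have hfR : (f : G) ∈ R := ⟨ff, ⟨(Multiplicative.ofAdd (1 : ZMod 2), (1 : DihedralGroup 4)), by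
      show φ (Multiplicative.ofAdd (1 : ZMod 2)) * ψ 1 = ff
      rw [ψ.map_one, mul_one]
      simp [φ]⟩, rfl⟩
    have heR : (e : G) ∈ R := by
      simpa [mul_assoc, hw] using mul_mem hewR hwR
    have hcR : (c : G) ∈ R := by
      rw [← hrr, Subgroup.coe_mul]
      exact mul_mem hewR hewR
    have hsub : ∀ z : E, z ∈ δ.ker → (z : G) ∈ R := by
      set V := R.subgroupOf E ⊓ δ.ker with hV
      have h3 : ({1, c, f} : Set E) ⊆ V := by
        intro z hz
        rcases hz with rfl | rfl | rfl
        · exact one_mem _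
        · exact ⟨hcR, hck⟩
        · exact ⟨hfR, hfk⟩
      have hn : ({1, c, f} : Set E).ncard = 3 := by
        rw [Set.ncard_insert_of_notMem (by simp [hc1.symm, hf1.symm]) (Set.toFinite _),
          Set.ncard_pair hfc.symm]
      have h1 := Set.ncard_le_ncard h3 (Set.toFinite _)
      rw [hn, ← Nat.card_coe_set_eq, SetLike.coe_sort_coe] at h1
      have h2 : Nat.card V ∣ 4 := hk4 ▸ Subgroup.card_dvd_of_le inf_le_right
      have hV4 : V = δ.ker := Subgroup.eq_of_le_of_card_ge inf_le_right (by
        rw [hk4]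
        have : Nat.card V ∈ Nat.divisors 4 := Nat.mem_divisors.2 ⟨h2, by norm_num⟩
        rw [show Nat.divisors 4 = {1, 2, 4} by decide] at this
        simp only [Finset.mem_insert, Finset.mem_singleton] at this
        omega)
      intro z hz
      rw [← hV4] at hz
      exact hz.1
    have hER : E ≤ R := by
      have hlt : δ.ker < R.subgroupOf E := by
        refine lt_of_le_of_ne (fun z hz => hsub z hz) fun h => he ?_
        rw [h]
        exact Subgroup.mem_subgroupOf.2 heR
      have hcl := card_lt_of_lt hlt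
      rw [hk4] at hcl
      have hd : Nat.card (R.subgroupOf E) ∈ Nat.divisors 8 :=
        Nat.mem_divisors.2 ⟨hE ▸ Subgroup.card_subgroup_dvd_card _, by norm_num⟩
      rw [show Nat.divisors 8 = {1, 2, 4, 8} by decide] at hd
      simp only [Finset.mem_insert, Finset.mem_singleton] at hd
      have htop : R.subgroupOf E = ⊤ := Subgroup.eq_top_of_card_eq _ (by omega)
      exact Subgroup.subgroupOf_eq_top.1 htop
    have hSR : R = S := by
      refine Subgroup.eq_of_le_of_card_ge (Subgroup.map_subtype_le _) ?_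
      have hlt : E < R := lt_of_le_of_ne hER fun h => hwE (h ▸ hwR)
      have hcl := card_lt_of_lt hlt
      have hd : Nat.card R ∈ Nat.divisors 16 :=
        Nat.mem_divisors.2 ⟨hS ▸ Subgroup.card_dvd_of_le (Subgroup.map_subtype_le _), by norm_num⟩
      rw [show Nat.divisors 16 = {1, 2, 4, 8, 16} by decide] at hd
      simp only [Finset.mem_insert, Finset.mem_singleton] at hd
      omega
    refine Subgroup.map_injective S.subtype_injective ?_
    rw [← hR, hSR, ← MonoidHom.range_eq_map, Subgroup.range_subtype]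
  refine ⟨(MulEquiv.ofBijective Φ ((Nat.bijective_iff_surjective_and_card _).2 ⟨hsurj, ?_⟩)).symm⟩
  rw [Nat.card_prod, DihedralGroup.nat_card, hS, Nat.card_congr Multiplicative.toAdd, Nat.card_zmod]

/-- The simple groups whose Sylow two-subgroups are small. -/
theorem simple_small_two (hna : ¬ IsMulCommutative T) (S : Sylow 2 T)
    (h : IsMulCommutative (S : Subgroup T) ∨ Nat.card S ∣ 16) :
    HasCyclicSylow T ∨ SixteenSD (S : Subgroup T) := by
  classical
  haveI := Fact.mk Nat.prime_two
  by_cases hSc : IsMulCommutative (S : Subgroup T)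
  · exact Or.inl (hasCyclicSylow_of_abelian_two hna S hSc)
  replace h := h.resolve_left hSc
  by_cases h2 : Cfsg.PRankLE 2 2 T
  · letI : Fintype (GaloisField 2 4) := Fintype.ofFinite _
    have h16 : Fintype.card (GaloisField 2 4) = 16 := by
      rw [← Nat.card_eq_fintype_card, GaloisField.card 2 4 (by norm_num)]
      norm_num
    obtain ⟨P⟩ : Nonempty (Sylow 2 (Cfsg.PSU 3 (GaloisField 2 4) 4)) := inferInstance
    rcases Cfsg.Agent.S0516.result hna h2 S h16 P with ⟨n, hn, ⟨e⟩⟩ | ⟨n, hn, hc, x, y, hx, hy, hxy⟩ |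
      ⟨n, hn, hc, -⟩ | he
    · exact Or.inl (hasCyclicSylow_of_gwModel (WalterUse.dihedralKind hna S hn e))
    · have hn3 : n = 3 := by
        have : 2 ^ (n + 1) ∣ 2 ^ 4 := hc ▸ h
        have := (Nat.pow_dvd_pow_iff_le_right (by norm_num)).1 this
        omega
      subst hn3
      refine Or.inr ⟨by rw [hc]; norm_num, x, y, x.2, y.2, ?_, ?_, ?_, fun hyx => ?_⟩
      · rw [Subgroup.orderOf_coe, hx]; norm_num
      · rw [Subgroup.orderOf_coe, hy]
      · have := Subtype.ext_iff.1 hxy
        simpa using this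
      · obtain ⟨i, hi⟩ := Subgroup.mem_zpowers_iff.1 hyx
        have hcy : Commute (y : T) (x : T) := hi ▸ (Commute.refl (x : T)).zpow_left i
        have h3 : (x : T) ^ 1 = (x : T) ^ 3 := by
          have := Subtype.ext_iff.1 hxy
          simp only [Subgroup.coe_mul, Subgroup.coe_inv, SubgroupClass.coe_pow] at this
          rw [hcy.eq, mul_inv_cancel_right] at this
          rw [pow_one]
          exact this.trans (by norm_num)
        rw [pow_eq_pow_iff_modEq, Subgroup.orderOf_coe, hx] at h3
        exact absurd h3 (by decide)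
    · exfalso
      have : 2 ^ (2 * n + 1) ∣ 2 ^ 4 := hc ▸ h
      have := (Nat.pow_dvd_pow_iff_le_right (by norm_num)).1 this
      omega
    · exfalso
      obtain ⟨e⟩ := he
      have := Nat.card_congr e.toEquiv
      rw [(CfsgLib.UnitaryFour.main h16 P).1] at this
      rw [this] at h
      norm_num at h
  · exfalso
    rw [Cfsg.PRankLE] at h2
    push Not at h2
    obtain ⟨A, hAc, hAe, hA⟩ := h2
    have hAp : IsPGroup 2 A := fun a => ⟨1, Subtype.ext (by
      rw [pow_one, SubgroupClass.coe_pow]; exact hAe a a.2)⟩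
    obtain ⟨Q, hQ⟩ := hAp.exists_le_sylow
    obtain ⟨g, hg⟩ := MulAction.exists_smul_eq T Q S
    set E := A.map (MulAut.conj g).toMonoidHom with hE
    have hES : E ≤ (S : Subgroup T) := by
      rintro _ ⟨a, ha, rfl⟩
      have := congrArg (fun R : Sylow 2 T => (R : Subgroup T)) hg
      simp only [Sylow.coe_subgroup_smul] at this
      rw [← this]
      exact Subgroup.smul_mem_pointwise_smul a (MulAut.conj g) _ (hQ ha)
    have hEcard : Nat.card E = Nat.card A :=
      Subgroup.card_map_of_injective (MulAut.conj g).injective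
    have hexp : ∀ a ∈ E, a * a = 1 := by
      rintro _ ⟨a, ha, rfl⟩
      rw [← map_mul, ← pow_two, hAe a ha, map_one]
    have hab : ∀ a ∈ E, ∀ b ∈ E, a * b = b * a := by
      rintro _ ⟨a, ha, rfl⟩ _ ⟨b, hb, rfl⟩
      rw [← map_mul, ← map_mul]
      exact congrArg _ (congrArg Subtype.val (hAc.is_comm.comm ⟨a, ha⟩ ⟨b, hb⟩))
    have hEd : Nat.card E ∣ Nat.card S := Subgroup.card_dvd_of_le hES
    have hEmem : Nat.card E ∈ Nat.divisors 16 := Nat.mem_divisors.2 ⟨hEd.trans h, by norm_num⟩
    rw [show Nat.divisors 16 = {1, 2, 4, 8, 16} by decide] at hEmem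
    simp only [Finset.mem_insert, Finset.mem_singleton] at hEmem
    have hcomm_of_eq : Nat.card E = Nat.card S → False := fun he => by
      have hEeq : E = (S : Subgroup T) := Subgroup.eq_of_le_of_card_ge hES he.ge
      exact hSc ⟨⟨fun a b => Subtype.ext (hab a (hEeq.symm ▸ a.2) b (hEeq.symm ▸ b.2))⟩⟩
    norm_num at hA
    obtain ⟨hE8, hS16⟩ : Nat.card E = 8 ∧ Nat.card S = 16 := by
      have hSmem : Nat.card S ∈ Nat.divisors 16 := Nat.mem_divisors.2 ⟨h, by norm_num⟩
      rw [show Nat.divisors 16 = {1, 2, 4, 8, 16} by decide] at hSmem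
      simp only [Finset.mem_insert, Finset.mem_singleton] at hSmem
      have hle := Subgroup.card_le_of_le hES
      by_contra hne
      refine hcomm_of_eq ?_
      omega
    have hidx : E.relIndex (S : Subgroup T) = 2 := by
      have h' := Subgroup.card_mul_index (E.subgroupOf (S : Subgroup T))
      rw [Nat.card_congr (Subgroup.subgroupOfEquivOfLe hES).toEquiv, hE8, hS16] at h'
      show (E.subgroupOf (S : Subgroup T)).index = 2
      omega
    obtain ⟨w, hwS, hwE, hw⟩ := exists_involution_outside hna S E hES hidx hexp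
    obtain ⟨H, hH⟩ := Cfsg.Agent.S2911.result S
      (prod_dihedral_of_involution _ E hS16 hE8 hES hexp hab hSc hwS hwE hw)
    exact no_index_two hna H hH

end CfsgLib.CentralTypeSmall
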