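import Cfsg.Agent.Lib.CentralTypeSmall.Regular
import Cfsg.Agent.Lib.SmallOrder

/-!
# A simple factor of the socle has no cyclic Sylow subgroup
-/

namespace CfsgLib.CentralTypeSmall

open Cfsg CfsgLib.CharTheory CfsgLib.FullyRamified

set_option linter.unusedSectionVars false
set_option linter.style.haveILetI false
set_option linter.unusedVariables false

universe u

/-- In a nonabelian simple group an element of order `p` of a cyclic Sylow subgroup is conjugate
to a different power of itself. -/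
theorem exists_power_conj {T : Type u} [Group T] [Finite T] [IsSimpleGroup T]
    (hna : ¬ IsMulCommutative T) {p : ℕ} [hp : Fact p.Prime] (P : Sylow p T)
    (hcyc : IsCyclic (P : Subgroup T)) (hd : p ∣ Nat.card T) :
    ∃ (a y n : T) (m : ℕ), orderOf a = p ∧ n * a * n⁻¹ = a ^ m ∧ a ^ m ≠ a ∧
      (P : Subgroup T) = Subgroup.zpowers y ∧ a ∈ Subgroup.zpowers y := by
  classical
  obtain ⟨⟨y, hyP⟩, hy⟩ := hcyc.exists_generator
  have hPy : (P : Subgroup T) = Subgroup.zpowers y := by
    refine le_antisymm (fun x hx => ?_) (Subgroup.zpowers_le.2 hyP)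
    obtain ⟨i, hi⟩ := Subgroup.mem_zpowers_iff.1 (hy ⟨x, hx⟩)
    exact Subgroup.mem_zpowers_iff.2 ⟨i, congrArg Subtype.val hi⟩
  obtain ⟨k, hk⟩ := IsPGroup.iff_card.1 P.2
  have hk' : orderOf y = p ^ k := by rw [← hk, hPy, Nat.card_zpowers]
  have hk0 : k ≠ 0 := by
    intro h0
    rw [h0, pow_zero] at hk
    exact P.not_dvd_index (by rwa [← Subgroup.card_mul_index (P : Subgroup T), hk, one_mul] at hd)
  obtain ⟨j, rfl⟩ := Nat.exists_eq_succ_of_ne_zero hk0
  have ha : orderOf (y ^ p ^ j) = p := by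
    rw [orderOf_pow_of_dvd (pow_ne_zero _ hp.out.ne_zero) (by rw [hk']; exact pow_dvd_pow p (Nat.le_succ j)),
      hk', pow_succ, Nat.mul_div_cancel_left _ (pow_pos hp.out.pos j)]
  by_contra hall
  push Not at hall
  have hfix : ∀ n ∈ Subgroup.normalizer ((P : Subgroup T) : Set T), n ^ p ^ j ∈
      Subgroup.centralizer ((P : Subgroup T) : Set T) := by
    intro n hn
    have hny : n * y * n⁻¹ ∈ Subgroup.zpowers y := hPy ▸ (Subgroup.mem_normalizer_iff.1 hn y).1 hyP
    obtain ⟨m, hm⟩ := (isOfFinOrder_of_finite y).mem_powers_iff_mem_zpowers.2 hny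
    simp only at hm
    have hconj : n * y ^ p ^ j * n⁻¹ = (y ^ p ^ j) ^ m := by
      rw [← conj_pow, ← hm, ← pow_mul, ← pow_mul, mul_comm]
    have hmod : m ≡ 1 [MOD p] := by
      by_contra hne
      refine hall (y ^ p ^ j) y n m ha hconj (fun he => hne ?_) hPy
        (Subgroup.pow_mem _ (Subgroup.mem_zpowers y) _)
      rw [← ha]
      exact pow_eq_pow_iff_modEq.1 (he.trans (pow_one _).symm)
    have hiter : ∀ i : ℕ, n ^ i * y * (n ^ i)⁻¹ = y ^ m ^ i := by
      intro i
      induction i with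
      | zero => simp
      | succ i ih =>
        rw [pow_succ' n, show n * n ^ i * y * (n * n ^ i)⁻¹ = n * (n ^ i * y * (n ^ i)⁻¹) * n⁻¹ by group,
          ih, ← conj_pow, ← hm, ← pow_mul, pow_succ' m, mul_comm]
    have hbig : m ^ p ^ j ≡ 1 [MOD p ^ (j + 1)] := by
      have h1 : (p : ℤ) ∣ (m : ℤ) - 1 := by
        have := (Nat.modEq_iff_dvd.1 hmod.symm)
        exact_mod_cast this
      have h2 := dvd_sub_pow_of_dvd_sub h1 j
      rw [one_pow] at h2
      exact (Nat.modEq_iff_dvd.2 (by exact_mod_cast h2)).symm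
    rw [Subgroup.mem_centralizer_iff]
    intro x hx
    rw [hPy] at hx
    have hyy : n ^ p ^ j * y * (n ^ p ^ j)⁻¹ = y := by
      rw [hiter]
      conv_rhs => rw [← pow_one y]
      rw [pow_eq_pow_iff_modEq, hk']
      exact hbig
    have hcy : Commute (n ^ p ^ j) y := by
      calc n ^ p ^ j * y = n ^ p ^ j * y * (n ^ p ^ j)⁻¹ * n ^ p ^ j := by group
        _ = y * n ^ p ^ j := by rw [hyy]
    obtain ⟨i, rfl⟩ := Subgroup.mem_zpowers_iff.1 hx
    exact (hcy.zpow_right i).symm.eq
  have hNC : Subgroup.normalizer ((P : Subgroup T) : Set T) ≤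
      Subgroup.centralizer ((P : Subgroup T) : Set T) := by
    intro n hn
    set N := Subgroup.normalizer ((P : Subgroup T) : Set T) with hN
    set f := (P : Subgroup T).normalizerMonoidHom with hf
    have hker : f.ker = (Subgroup.centralizer ((P : Subgroup T) : Set T)).subgroupOf N :=
      Subgroup.normalizerMonoidHom_ker _
    have h1 : f ⟨n, hn⟩ ^ p ^ j = 1 := by
      rw [← map_pow, ← MonoidHom.mem_ker, hker, Subgroup.mem_subgroupOf]
      exact hfix n hn
    have h2 : f ⟨n, hn⟩ ^ f.ker.index = 1 := by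
      rw [← map_pow, ← MonoidHom.mem_ker]
      exact Subgroup.pow_index_mem _ _
    have hdvd : f.ker.index ∣ (P : Subgroup T).index := by
      have hPN : (P : Subgroup T) ≤ N := Subgroup.le_normalizer
      have hle : (P : Subgroup T).subgroupOf N ≤ f.ker := by
        rw [hker]
        intro x hx
        rw [Subgroup.mem_subgroupOf] at hx ⊢
        rw [Subgroup.mem_centralizer_iff]
        intro z hz
        haveI := hcyc
        exact congrArg Subtype.val ((IsCyclic.commGroup (α := (P : Subgroup T))).mul_comm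
          ⟨z, hz⟩ ⟨x, hx⟩)
      exact (Subgroup.index_dvd_of_le hle).trans (Dvd.intro _ (Subgroup.relIndex_mul_index hPN))
    have hcop : Nat.Coprime (p ^ j) f.ker.index :=
      Nat.Coprime.pow_left j ((hp.out.coprime_iff_not_dvd.2 P.not_dvd_index).coprime_dvd_right hdvd)
    have h3 := pow_gcd_eq_one.2 ⟨h1, h2⟩
    rw [hcop, pow_one, ← MonoidHom.mem_ker, hker, Subgroup.mem_subgroupOf] at h3
    exact h3
  have hcard : Nat.card T = Nat.card P :=
    CfsgLib.SmallOrder.card_eq_sylow_of_normalizer_le_centralizer P hNC (fun h0 => by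
      rw [h0] at hk
      exact hk0 (by
        have : 1 = p ^ (j + 1) := by rw [← hk, Subgroup.card_bot]
        exact absurd this.symm (Nat.one_lt_pow (Nat.succ_ne_zero j) hp.out.one_lt).ne'))
  have hpT : IsPGroup p T := IsPGroup.iff_card.2 ⟨j + 1, hcard.trans hk⟩
  haveI := hpT.center_nontrivial
  rcases Subgroup.Normal.eq_bot_or_eq_top (inferInstance : (Subgroup.center T).Normal) with h | h
  · exact (Subgroup.nontrivial_iff_ne_bot _).1 inferInstance h
  · exact hna ⟨⟨fun u v => Subgroup.mem_center_iff.1 (h ▸ Subgroup.mem_top v) u⟩⟩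

variable {H : Type u} [Group H] [Fintype H] {Z : Subgroup H} [Z.Normal] {θ : Z → ℂ} {χ : H → ℂ}
  {e : ℕ}

/-- A simple direct factor of a normal subgroup has no cyclic Sylow subgroup. -/
theorem not_cyclic_of_factor (R : Ramified Z θ χ e) (M T U : Subgroup (H ⧸ Z)) [M.Normal]
    (hTM : T ≤ M) (hM : M ≤ T ⊔ U) (hcomm : ∀ t ∈ T, ∀ r ∈ U, Commute t r)
    (hperf : ⁅U, U⁆ = U) (hsimple : IsSimpleGroup T) (hna : ¬ IsMulCommutative T) {p : ℕ}
    [hp : Fact p.Prime] (hd : p ∣ Nat.card T) (P : Sylow p T) : ¬ IsCyclic (P : Subgroup T) := by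
  classical
  intro hcyc
  haveI := hsimple
  have hB := base_of_ramified R
  obtain ⟨a₀, y₀, n₀, m, ha₀, hconj₀, hne₀, hP, hay⟩ := exists_power_conj hna P hcyc hd
  set a : H ⧸ Z := (a₀ : H ⧸ Z) with ha
  set n : H ⧸ Z := (n₀ : H ⧸ Z) with hn
  have hao : orderOf a = p := (Subgroup.orderOf_coe a₀).trans ha₀
  have hconj : n * a * n⁻¹ = a ^ m := by
    simpa using congrArg (Subtype.val : T → H ⧸ Z) hconj₀
  have hne : a ^ m ≠ a := fun h => hne₀ (Subtype.ext (by simpa using h))
  obtain ⟨g, hg, hgne⟩ := exists_pairB_ne_one R (x := a) fun h => by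
    rw [h, orderOf_one] at hao
    exact hp.out.one_lt.ne hao
  have hap : a ^ p = 1 := hao ▸ pow_orderOf_eq_one a
  -- commuting with a conjugate power
  have hmcop : m.Coprime (orderOf a) := by
    rw [hao]
    refine (hp.out.coprime_iff_not_dvd.2 fun hdm => ?_).symm
    obtain ⟨i, rfl⟩ := hdm
    rw [pow_mul, hap, one_pow, mul_inv_eq_one] at hconj
    have : a = 1 := by simpa using hconj
    rw [this, orderOf_one] at hao
    exact hp.out.one_lt.ne hao
  have hback : ∀ x, Commute (a ^ m) x → Commute a x := by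
    intro x hx
    obtain ⟨i, hi⟩ := exists_pow_eq_self_of_coprime hmcop
    rw [← hi]
    exact hx.pow_left i
  set g' := n * g * n⁻¹ with hg'
  have hag' : Commute a g' := hback g' (by
    rw [← hconj]
    exact (Commute.conj_iff n).2 hg)
  set C := Subgroup.centralizer ({a} : Set (H ⧸ Z)) with hC
  have hCm : ∀ c ∈ C, Commute a c := fun c hc => (Subgroup.mem_centralizer_singleton_iff.1 hc).symm
  have hCof : ∀ c, Commute a c → c ∈ C := fun c hc =>
    Subgroup.mem_centralizer_singleton_iff.2 hc.symm.eq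
  let f : C →* ℂ :=
    { toFun := fun c => pairB Z θ a c
      map_one' := pairB_one_right hB a
      map_mul' := fun u v => pairB_mul_right hB (hCm u u.2) (hCm v v.2) }
  have hf : ∀ c : C, ((f.toHomUnits c : ℂˣ) : ℂ) = pairB Z θ a (c : H ⧸ Z) := fun c => rfl
  -- the pairing kills `M ∩ C(a)`
  have hkill : ∀ d ∈ M, Commute a d → pairB Z θ a d = 1 := by
    intro d hdM had
    have hle : T ⊔ U ≤ (MonoidHom.noncommCoprod T.subtype U.subtype fun t r => hcomm t t.2 r r.2).range := by
      exact sup_le (fun t ht => ⟨(⟨t, ht⟩, 1), mul_one t⟩) fun r hr => ⟨(1, ⟨r, hr⟩), one_mul r⟩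
    obtain ⟨⟨t, r⟩, rfl⟩ := hle (hM hdM)
    change Commute a ((t : H ⧸ Z) * r) at had
    show pairB Z θ a ((t : H ⧸ Z) * r) = 1
    have har : Commute a (r : H ⧸ Z) := hcomm _ a₀.2 _ r.2
    have hat : Commute a (t : H ⧸ Z) := by
      have := had.mul_right har.inv_right
      rwa [mul_inv_cancel_right] at this
    rw [pairB_mul_right hB hat har]
    have hr1 : pairB Z θ a (r : H ⧸ Z) = 1 := by
      let ρ : U →* C := U.subtype.codRestrict C fun w => hCof _ (hcomm _ a₀.2 _ w.2)
      have htop : commutator U = ⊤ := Subgroup.map_injective U.subtype_injective (by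
        rw [Subgroup.map_subtype_commutator, hperf, ← MonoidHom.range_eq_map, Subgroup.range_subtype])
      have hk := Abelianization.commutator_subset_ker (f.toHomUnits.comp ρ)
        (show r ∈ commutator U by rw [htop]; trivial)
      exact (hf (ρ r)).symm.trans (congrArg Units.val (MonoidHom.mem_ker.1 hk))
    have ht1 : pairB Z θ a (t : H ⧸ Z) = 1 := by
      set CT : Subgroup T := C.subgroupOf T with hCT
      let ρ : CT →* C := (T.subtype.comp CT.subtype).codRestrict C fun w => w.2
      set φ := f.toHomUnits.comp ρ with hφ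
      have hPC : (P : Subgroup T) ≤ CT := by
        intro w hw
        rw [hP] at hw
        obtain ⟨i, hi⟩ := Subgroup.mem_zpowers_iff.1 hw
        obtain ⟨l, hl⟩ := Subgroup.mem_zpowers_iff.1 hay
        refine Subgroup.mem_subgroupOf.2 (hCof _ ?_)
        have h1 : Commute a₀ w := by rw [← hi, ← hl]; exact Commute.zpow_zpow_self y₀ l i
        exact h1.map T.subtype
      have hPk : (P : Subgroup T).subgroupOf CT ≤ φ.ker := by
        intro w hw
        rw [Subgroup.mem_subgroupOf, hP] at hw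
        rw [MonoidHom.mem_ker]
        refine Units.ext ((hf (ρ w)).trans ?_)
        obtain ⟨Ψ, hΨ⟩ := exists_ext_cyc hB (y₀ : H ⧸ Z)
        obtain ⟨ah, hah⟩ := QuotientGroup.mk_surjective a
        obtain ⟨wh, hwh⟩ := QuotientGroup.mk_surjective ((ρ w : C) : H ⧸ Z)
        rw [← hah, ← hwh]
        have hzp : ∀ v : T, v ∈ Subgroup.zpowers y₀ →
            (v : H ⧸ Z) ∈ Subgroup.zpowers (y₀ : H ⧸ Z) := by
          intro v hv
          obtain ⟨i, hi⟩ := Subgroup.mem_zpowers_iff.1 hv
          exact Subgroup.mem_zpowers_iff.2 ⟨i, by rw [← hi]; simp⟩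
        refine pairB_eq_one_of_mem hB hΨ (abMod_cyc _) (mem_cyc.2 ?_) (mem_cyc.2 ?_)
        · rw [hah]; exact hzp a₀ hay
        · rw [hwh]; exact hzp (w : T) hw
      have hdvd : φ.ker.index ∣ (P : Subgroup T).index :=
        (Subgroup.index_dvd_of_le hPk).trans (Dvd.intro _ (Subgroup.relIndex_mul_index hPC))
      have hcop : Nat.Coprime p φ.ker.index :=
        (hp.out.coprime_iff_not_dvd.2 P.not_dvd_index).coprime_dvd_right hdvd
      set c : CT := ⟨t, Subgroup.mem_subgroupOf.2 (hCof _ hat)⟩ with hc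
      have h1 : φ c ^ p = 1 := Units.ext (by
        rw [Units.val_pow_eq_pow_val, hφ, MonoidHom.comp_apply, hf,
          pairB_pow_eq_one hB (hCm _ (ρ c).2) hap, Units.val_one])
      have h2 : φ c ^ φ.ker.index = 1 := by
        rw [← map_pow, ← MonoidHom.mem_ker]
        exact Subgroup.pow_index_mem _ _
      have h3 := pow_gcd_eq_one.2 ⟨h1, h2⟩
      rw [hcop, pow_one] at h3
      exact (hf (ρ c)).symm.trans (congrArg Units.val h3)
    rw [ht1, hr1, mul_one]
  -- the conjugation by `n`
  have hdM : g⁻¹ * g' ∈ M := by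
    rw [hg', show g⁻¹ * (n * g * n⁻¹) = (g⁻¹ * n * g) * n⁻¹ by group]
    refine mul_mem ?_ (inv_mem (hTM n₀.2))
    simpa using Subgroup.Normal.conj_mem (inferInstance : M.Normal) n (hTM n₀.2) g⁻¹
  have had : Commute a (g⁻¹ * g') := hg.inv_right.mul_right hag'
  have h1 : pairB Z θ a g' = pairB Z θ a g := by
    conv_lhs => rw [show g' = g * (g⁻¹ * g') by group]
    rw [pairB_mul_right hB hg had, hkill _ hdM had, mul_one]
  have h2 : pairB Z θ a g ^ m = pairB Z θ a g := by
    conv_rhs => rw [← pairB_conj hB hg n, hconj, pairB_pow_left hB hag', h1]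
  set u : ℂˣ := f.toHomUnits ⟨g, hCof g hg⟩ with hu
  have hu1 : (u : ℂ) = pairB Z θ a g := hf _
  have h2' : u ^ m = u := Units.ext (by rw [Units.val_pow_eq_pow_val, hu1, h2])
  have h3 : orderOf u = p := orderOf_eq_prime
    (Units.ext (by rw [Units.val_pow_eq_pow_val, hu1, pairB_pow_eq_one hB hg hap, Units.val_one]))
    fun h => hgne (by rw [← hu1, h, Units.val_one])
  refine hne ?_
  conv_rhs => rw [← pow_one a]
  rw [pow_eq_pow_iff_modEq, hao, ← h3, ← pow_eq_pow_iff_modEq, pow_one]
  exact h2'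

end CfsgLib.CentralTypeSmall
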