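import Cfsg.Agent.Lib.CentralTypeSmall.Descent
import Cfsg.Agent.Lib.CentralTypeSmall.RadGroup
import Cfsg.Agent.Lib.CentralTypeSmall.Socle
import Cfsg.Agent.Lib.CentralTypeSmall.SmallTwo
import Cfsg.Agent.Lib.Solvable.MinimalNormal

/-!
# Groups of central type with small nonabelian Sylow subgroups are solvable
-/

namespace CfsgLib.CentralTypeSmall

open Cfsg CfsgLib.CharTheory CfsgLib.FullyRamified
open scoped commutatorElement

set_option linter.unusedSectionVars false
set_option linter.style.haveILetI false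
set_option linter.unusedVariables false

universe u

/-- Sylow subgroups are abelian for the primes with large power in the order. -/
def SylAb (G : Type u) [Group G] : Prop :=
  ∀ p : ℕ, p.Prime → p ^ 6 ∣ Nat.card G → ∀ P : Sylow p G, IsMulCommutative P

theorem SylAb.comm_of_pGroup {G : Type u} [Group G] (h : SylAb G) {p : ℕ} (hp : p.Prime)
    (hd : p ^ 6 ∣ Nat.card G) {Q : Subgroup G} (hQ : IsPGroup p Q) :
    ∀ a ∈ Q, ∀ b ∈ Q, a * b = b * a := by
  obtain ⟨P, hP⟩ := hQ.exists_le_sylow
  intro a ha b hb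
  exact congrArg Subtype.val ((h p hp hd P).is_comm.comm (⟨a, hP ha⟩ : P) ⟨b, hP hb⟩)

theorem SylAb.of_injective {A B : Type u} [Group A] [Group B] [Finite B] (f : A →* B)
    (hf : Function.Injective f) (h : SylAb B) : SylAb A := by
  intro p hp hd P
  have hd' : p ^ 6 ∣ Nat.card B := hd.trans (Subgroup.card_dvd_of_injective f hf)
  refine ⟨⟨fun a b => Subtype.ext (hf ?_)⟩⟩
  rw [Subgroup.coe_mul, Subgroup.coe_mul, map_mul, map_mul]
  exact h.comm_of_pGroup hp hd' (P.2.map f) _ ⟨a, a.2, rfl⟩ _ ⟨b, b.2, rfl⟩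

theorem SylAb.of_surjective {A B : Type u} [Group A] [Group B] [Finite A] (f : A →* B)
    (hf : Function.Surjective f) (h : SylAb A) : SylAb B := by
  intro p hp hd P
  haveI := Fact.mk hp
  haveI : Finite B := Finite.of_surjective f hf
  have hd' : p ^ 6 ∣ Nat.card A := hd.trans (Subgroup.card_dvd_of_surjective f hf)
  obtain ⟨Q⟩ : Nonempty (Sylow p A) := inferInstance
  obtain ⟨g, hg⟩ := MulAction.exists_smul_eq B (Q.mapSurjective hf) P
  refine ⟨⟨fun a b => ?_⟩⟩
  have hcomm : ∀ u ∈ (Q.mapSurjective hf : Subgroup B), ∀ v ∈ (Q.mapSurjective hf : Subgroup B),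
      u * v = v * u := by
    intro u hu v hv
    obtain ⟨u, hu', rfl⟩ : u ∈ (Q : Subgroup A).map f := hu
    obtain ⟨v, hv', rfl⟩ : v ∈ (Q : Subgroup A).map f := hv
    rw [← map_mul, ← map_mul, h.comm_of_pGroup hp hd' Q.2 u hu' v hv']
  have hmem : ∀ u : P, g⁻¹ * (u : B) * g ∈ (Q.mapSurjective hf : Subgroup B) := by
    intro u
    have hu : (u : B) ∈ ((g • Q.mapSurjective hf : Sylow p B) : Subgroup B) := by rw [hg]; exact u.2
    rw [Sylow.coe_subgroup_smul, Subgroup.mem_pointwise_smul_iff_inv_smul_mem] at hu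
    simpa using hu
  have := hcomm _ (hmem a) _ (hmem b)
  refine Subtype.ext ?_
  show (a : B) * b = b * a
  calc (a : B) * b = g * ((g⁻¹ * a * g) * (g⁻¹ * b * g)) * g⁻¹ := by group
    _ = g * ((g⁻¹ * b * g) * (g⁻¹ * a * g)) * g⁻¹ := by rw [this]
    _ = b * a := by group

/-- The main theorem, by induction on the index. -/
theorem main_aux : ∀ (n : ℕ) (H : Type u) [Group H] [Fintype H] (Z : Subgroup H) [Z.Normal]
    (θ : Z → ℂ) (χ : H → ℂ) (e : ℕ), Ramified Z θ χ e → Z.index = n → SylAb (H ⧸ Z) →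
    Group.IsSolvable (H ⧸ Z) := by
  intro n
  induction n using Nat.strong_induction_on with
  | _ n ih =>
  intro H _ _ Z _ θ χ e R hn hab
  classical
  by_contra hns
  set G := H ⧸ Z with hG
  haveI : Fact (Nat.Prime 2) := ⟨Nat.prime_two⟩
  -- the induction
  have hIH : InertiaSolvable Z χ := by
    intro K _ _ hZK hKne ξ hξ hc
    obtain ⟨f, m, θ', ψ, hf0, hf, hidx, hram⟩ := descend R K hZK hξ hc
    haveI := Fintype.ofFinite (inertia K ξ)
    have hKT : K ≤ inertia K ξ := le_inertia K (isClassFunction_irr hξ)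
    refine ih _ ?_ _ (K.subgroupOf (inertia K ξ)) θ' ψ m hram rfl ?_
    · rw [← hn, ← Subgroup.relIndex_mul_index hZK, ← Subgroup.relIndex_mul_index hKT]
      have h1 : 1 < Z.relIndex K := by
        have h0 : Z.relIndex K ≠ 0 := Subgroup.index_ne_zero_of_finite
        have h1 : Z.relIndex K ≠ 1 := fun h => hKne (le_antisymm (Subgroup.relIndex_eq_one.1 h) hZK)
        omega
      have h2 : 0 < K.relIndex (inertia K ξ) := Nat.pos_of_ne_zero Subgroup.index_ne_zero_of_finite
      have h3 : 0 < (inertia K ξ).index := Nat.pos_of_ne_zero Subgroup.index_ne_zero_of_finite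
      show K.relIndex (inertia K ξ) < _
      calc K.relIndex (inertia K ξ) = 1 * (K.relIndex (inertia K ξ) * 1) := by ring
        _ < Z.relIndex K * (K.relIndex (inertia K ξ) * (inertia K ξ).index) :=
          Nat.mul_lt_mul_of_lt_of_le h1 (Nat.mul_le_mul le_rfl h3) (Nat.mul_pos h2 h3)
    · refine SylAb.of_injective (B := H ⧸ K)
        (QuotientGroup.map _ K (inertia K ξ).subtype (le_refl _)) ?_
        (SylAb.of_surjective (QuotientGroup.map Z K (MonoidHom.id H) hZK) ?_ hab)
      · rw [← MonoidHom.ker_eq_bot_iff, eq_bot_iff]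
        intro x hx
        induction x using QuotientGroup.induction_on with
        | _ x =>
          have h1 : ((x : H) : H ⧸ K) = 1 := hx
          exact Subgroup.mem_bot.2 ((QuotientGroup.eq_one_iff x).2
            (Subgroup.mem_subgroupOf.2 ((QuotientGroup.eq_one_iff (x : H)).1 h1)))
      · intro q
        induction q using QuotientGroup.induction_on with
        | _ x => exact ⟨QuotientGroup.mk x, rfl⟩
  have hcard : Nat.card G = e ^ 2 := R.sq.symm
  have D : Sit G :=
    { ns := hns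
      sq := ⟨e, by rw [hcard, pow_two]⟩
      ab := hab
      tr := fun A hA hA0 hc hmin => by
        haveI := hA
        exact exists_translation_section R hIH hns A hA0 hc hmin }
  -- a minimal normal subgroup
  have htop : (⊤ : Subgroup G) ≠ ⊥ := fun h => hns (by
    haveI : Subsingleton G := ⟨fun a b => by
      have ha : a ∈ (⊥ : Subgroup G) := h ▸ Subgroup.mem_top a
      have hb : b ∈ (⊥ : Subgroup G) := h ▸ Subgroup.mem_top b
      rw [Subgroup.mem_bot.1 ha, Subgroup.mem_bot.1 hb]⟩
    exact Group.isSolvable_of_comm fun a b => Subsingleton.elim _ _)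
  obtain ⟨M, hM, -, hM0, hMmin⟩ := exists_minNormal_le (G := G) inferInstance htop
  haveI := hM
  have hMns : ¬ Group.IsSolvable M := fun h => hM0 (D.normal_solvable_eq_bot M hM h)
  obtain ⟨T₀, s, hsimple, ⟨T, hTs⟩, -, hconj, hsup, hTle, -, hcommT⟩ :=
    MinimalNormal.exists_factors M hM0 hMmin
  have hsimp : ∀ T' ∈ s, IsSimpleGroup T' := fun T' hT' => by
    obtain ⟨h, rfl⟩ := hconj T' hT'
    haveI := hsimple
    exact (T₀.equivMapOfInjective _ (MulAut.conj h).injective).symm.isSimpleGroup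
  have hna0 : ¬ IsMulCommutative T₀ := by
    intro hc
    have hcc : ∀ T' ∈ s, ∀ a ∈ T', ∀ b ∈ T', a * b = b * a := by
      intro T' hT' a ha b hb
      obtain ⟨h, rfl⟩ := hconj T' hT'
      obtain ⟨a, ha', rfl⟩ := ha
      obtain ⟨b, hb', rfl⟩ := hb
      rw [← map_mul, ← map_mul]
      exact congrArg _ (congrArg Subtype.val (hc.is_comm.comm ⟨a, ha'⟩ ⟨b, hb'⟩))
    have h1 : ∀ T' ∈ s, M ≤ Subgroup.centralizer (T' : Set G) := by
      intro T' hT'
      rw [← hsup]
      refine Finset.sup_le fun T'' hT'' => ?_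
      intro x hx
      rw [Subgroup.mem_centralizer_iff]
      intro y hy
      rcases eq_or_ne T' T'' with rfl | hne
      · exact hcc T' hT' y hy x hx
      · exact (hcommT T' hT' T'' hT'' hne y hy x hx).eq
    have h2 : M ≤ Subgroup.centralizer (M : Set G) := by
      nth_rw 1 [← hsup]
      refine Finset.sup_le fun T' hT' => ?_
      intro x hx
      rw [Subgroup.mem_centralizer_iff]
      intro y hy
      exact (Subgroup.mem_centralizer_iff.1 (h1 T' hT' hy) x hx).symm
    exact hMns (Group.isSolvable_of_comm fun a b =>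
      Subtype.ext (Subgroup.mem_centralizer_iff.1 (h2 b.2) a a.2))
  have hna : ∀ T' ∈ s, ¬ IsMulCommutative T' := fun T' hT' hc => hna0 (by
    obtain ⟨h, rfl⟩ := hconj T' hT'
    refine ⟨⟨fun a b => ?_⟩⟩
    exact (T₀.equivMapOfInjective (MulAut.conj h).toMonoidHom (MulAut.conj h).injective).injective (by
      rw [map_mul, map_mul]; exact hc.is_comm.comm _ _))
  have hperfT : ∀ T' ∈ s, ⁅T', T'⁆ = T' := fun T' hT' => by
    haveI := hsimp T' hT'
    have htop : commutator T' = ⊤ :=
      (IsSimpleGroup.eq_bot_or_eq_top_of_normal _ inferInstance).resolve_left fun h =>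
        hna T' hT' ⟨⟨fun a b => by
          have : ⁅a, b⁆ ∈ commutator T' :=
            Subgroup.commutator_mem_commutator (Subgroup.mem_top a) (Subgroup.mem_top b)
          rw [h, Subgroup.mem_bot] at this
          exact commutatorElement_eq_one_iff_mul_comm.1 this⟩⟩
    rw [← Subgroup.map_subtype_commutator, htop, ← MonoidHom.range_eq_map, Subgroup.range_subtype]
  set U := (s.erase T).sup id with hU
  have hperfU : ⁅U, U⁆ = U := by
    refine le_antisymm (Subgroup.commutator_le_self U) (Finset.sup_le fun T' hT' => ?_)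
    rw [id_eq, ← hperfT T' (Finset.mem_of_mem_erase hT')]
    exact Subgroup.commutator_mono (Finset.le_sup (f := id) hT') (Finset.le_sup (f := id) hT')
  have hcommU : ∀ t ∈ T, ∀ r ∈ U, Commute t r := by
    have h1 : U ≤ Subgroup.centralizer (T : Set G) := Finset.sup_le fun T' hT' x hx => by
      rw [Subgroup.mem_centralizer_iff]
      exact fun y hy => (hcommT T hTs T' (Finset.mem_of_mem_erase hT')
        (Finset.ne_of_mem_erase hT').symm y hy x hx).eq
    exact fun t ht r hr => Subgroup.mem_centralizer_iff.1 (h1 hr) t ht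
  have hMTU : M ≤ T ⊔ U := by
    rw [← hsup, ← Finset.insert_erase hTs, Finset.sup_insert, id_eq]
  haveI := hsimp T hTs
  have hnoT : ¬ HasCyclicSylow T := by
    rintro ⟨p, P, hp, hd, hcyc⟩
    haveI := Fact.mk hp
    exact not_cyclic_of_factor R M T U (hTle T hTs).1 hMTU hcommU hperfU inferInstance (hna T hTs)
      hd P hcyc
  obtain ⟨S⟩ : Nonempty (Sylow 2 T) := inferInstance
  set v := (Nat.card G).factorization 2 with hv
  have hveven : v = 2 * e.factorization 2 := by
    rw [hv, hcard, Nat.factorization_pow, Finsupp.smul_apply, smul_eq_mul]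
  have hSG : IsPGroup 2 ((S : Subgroup T).map T.subtype) := S.2.map T.subtype
  have hcardS : Nat.card ((S : Subgroup T).map T.subtype) = Nat.card S :=
    Subgroup.card_map_of_injective T.subtype_injective
  obtain ⟨j, hj⟩ := IsPGroup.iff_card.1 S.2
  have hjv : j ≤ v := (Nat.Prime.pow_dvd_iff_le_factorization Nat.prime_two Nat.card_pos.ne').1
    (hj ▸ hcardS ▸ Subgroup.card_subgroup_dvd_card _)
  have hv6 : v < 6 := by
    by_contra hge
    refine hnoT (hasCyclicSylow_of_abelian_two (hna T hTs) S ⟨⟨fun a b => ?_⟩⟩)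
    refine Subtype.ext (Subtype.ext ?_)
    exact hab.comm_of_pGroup Nat.prime_two
      ((Nat.Prime.pow_dvd_iff_le_factorization Nat.prime_two Nat.card_pos.ne').2 (not_lt.1 hge)) hSG
      _ ⟨(a : T), a.2, rfl⟩ _ ⟨(b : T), b.2, rfl⟩
  rcases simple_small_two (hna T hTs) S (Or.inr (hj ▸ (Nat.pow_dvd_pow 2 (show j ≤ 4 by omega)))) with
    h | ⟨hS16, x₀, y₀, hxS, hyS, hx, hy, hxy, hyx⟩
  · exact hnoT h
  -- a semidihedral Sylow subgroup of order sixteen
  set Sg := (S : Subgroup T).map T.subtype with hSg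
  have hj4 : j = 4 := Nat.pow_right_injective (le_refl 2) (hj.symm.trans (hS16.trans (by norm_num)))
  have hP16 : Nat.card Sg = 2 ^ (Nat.card G).factorization 2 := by
    rw [hcardS, hj, ← hv, show v = j by omega]
  let P : Sylow 2 G := Sylow.ofCard Sg hP16
  have hP : (P : Subgroup G) = Sg := rfl
  set x : G := (x₀ : G) with hxdef
  set y : G := (y₀ : G) with hydef
  have hxo : orderOf x = 8 := (Subgroup.orderOf_coe x₀).trans hx
  have hy2 : y * y = 1 := by
    rw [← pow_two, ← ((Subgroup.orderOf_coe y₀).trans hy), hydef]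
    exact pow_orderOf_eq_one _
  have hxy' : y * x * y⁻¹ = x ^ 3 := by simpa using congrArg (Subtype.val : T → G) hxy
  have hx8 : x ^ 8 = 1 := hxo ▸ pow_orderOf_eq_one x
  have hB := base_of_ramified R
  set W := Subgroup.closure ({x, y} : Set G) with hW
  have hxW : x ∈ W := Subgroup.subset_closure (by simp)
  have hyW : y ∈ W := Subgroup.subset_closure (by simp)
  have hWS : W = Sg := by
    have hle : W ≤ Sg := by
      rw [hW, Subgroup.closure_le]
      rintro z (rfl | rfl)
      · exact ⟨x₀, hxS, rfl⟩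
      · exact ⟨y₀, hyS, rfl⟩
    have hlt : Subgroup.zpowers x < W := by
      refine lt_of_le_of_ne (Subgroup.zpowers_le.2 hxW) fun h => hyx ?_
      obtain ⟨i, hi⟩ := Subgroup.mem_zpowers_iff.1 (h ▸ hyW : y ∈ Subgroup.zpowers x)
      exact Subgroup.mem_zpowers_iff.2 ⟨i, Subtype.ext (by simpa using hi)⟩
    have h8 := card_lt_of_lt hlt
    rw [Nat.card_zpowers, hxo] at h8
    refine Subgroup.eq_of_le_of_card_ge hle ?_
    rw [hcardS, hS16]
    have hd : Nat.card W ∈ Nat.divisors 16 :=
      Nat.mem_divisors.2 ⟨hS16 ▸ hcardS ▸ Subgroup.card_dvd_of_le hle, by norm_num⟩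
    rw [show Nat.divisors 16 = {1, 2, 4, 8, 16} by decide] at hd
    simp only [Finset.mem_insert, Finset.mem_singleton] at hd
    omega
  have hz1 : x ^ 4 ≠ 1 := pow_ne_one_of_lt_orderOf (by norm_num) (by rw [hxo]; norm_num)
  have hzy : Commute (x ^ 4) y := by
    have h : y * x ^ 4 * y⁻¹ = x ^ 4 := by
      rw [← conj_pow, hxy', ← pow_mul, show 3 * 4 = 8 + 4 from rfl, pow_add, hx8, one_mul]
    calc x ^ 4 * y = y * x ^ 4 * y⁻¹ * y := by rw [h]
      _ = y * x ^ 4 := by group
  have hxy4 : (x * y) ^ 2 = x ^ 4 := by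
    have hyi : y⁻¹ = y := inv_eq_of_mul_eq_one_right hy2
    calc (x * y) ^ 2 = x * (y * x * y) := by rw [pow_two]; group
      _ = x * (y * x * y⁻¹) := by rw [hyi]
      _ = x * x ^ 3 := by rw [hxy']
      _ = x ^ 4 := (pow_succ' x 3).symm
  have hBx : pairB Z θ (x ^ 4) x = 1 :=
    pairB_eq_one_of_zpowers_left hB (Subgroup.pow_mem _ (Subgroup.mem_zpowers x) 4)
  have hzx : Commute (x ^ 4) x := (Commute.refl x).pow_left 4
  have hBy : pairB Z θ (x ^ 4) y = 1 := by
    have hBxy : pairB Z θ (x ^ 4) (x * y) = 1 := pairB_eq_one_of_zpowers_left hB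
      (hxy4 ▸ Subgroup.pow_mem _ (Subgroup.mem_zpowers (x * y)) 2)
    rw [show y = x⁻¹ * (x * y) by group, pairB_mul_right hB hzx.inv_right (hzx.mul_right hzy),
      pairB_inv_right hB hzx, hBx, hBxy, inv_one, mul_one]
  have hall : ∀ w ∈ W, Commute (x ^ 4) w ∧ pairB Z θ (x ^ 4) w = 1 := by
    intro w hw
    induction hw using Subgroup.closure_induction with
    | mem z hz =>
      rcases hz with rfl | rfl
      · exact ⟨hzx, hBx⟩
      · exact ⟨hzy, hBy⟩
    | one => exact ⟨Commute.one_right _, pairB_one_right hB _⟩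
    | mul a b _ _ ha hb =>
      exact ⟨ha.1.mul_right hb.1, by rw [pairB_mul_right hB ha.1 hb.1, ha.2, hb.2, one_mul]⟩
    | inv a _ ha => exact ⟨ha.1.inv_right, by rw [pairB_inv_right hB ha.1, ha.2, inv_one]⟩
  obtain ⟨w, hw, hne⟩ := exists_pairB_ne_one_sylow R P hz1
    (by rw [← pow_mul]; exact hx8) (fun w hw => (hall w (hWS.symm ▸ hw)).1)
  exact hne (hall w (hWS.symm ▸ hw)).2

end CfsgLib.CentralTypeSmall
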