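import Cfsg.Agent.Lib.OddOrder.FeitThompson
import Cfsg.Agent.Lib.CharTheory.Burnside

/-!
# Elementary tools for abelian minimal normal subgroups
-/

namespace CfsgLib.CentralTypeSmall

set_option linter.unusedSectionVars false
set_option linter.style.haveILetI false
set_option linter.unusedVariables false

universe u

variable {G : Type u} [Group G] [Finite G]

/-- A nontrivial normal subgroup contains a minimal one. -/
theorem exists_minNormal_le {N : Subgroup G} (hN : N.Normal) (hne : N ≠ ⊥) :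
    ∃ A : Subgroup G, A.Normal ∧ A ≤ N ∧ A ≠ ⊥ ∧
      ∀ M : Subgroup G, M.Normal → M ≤ A → M = ⊥ ∨ M = A := by
  obtain ⟨A, ⟨hAn, hA0, hAN⟩, hmin⟩ := (Set.toFinite
    {T : Subgroup G | T.Normal ∧ T ≠ ⊥ ∧ T ≤ N}).exists_minimal ⟨N, hN, hne, le_rfl⟩
  refine ⟨A, hAn, hAN, hA0, fun M hM hMA => ?_⟩
  by_cases hM0 : M = ⊥
  · exact Or.inl hM0
  · exact Or.inr (le_antisymm hMA (hmin ⟨hM, hM0, hMA.trans hAN⟩ hMA))

/-- A solvable normal subgroup contains an elementary abelian minimal one. -/
theorem exists_elem_minNormal_le {N : Subgroup G} (hN : N.Normal) (hne : N ≠ ⊥)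
    (hsol : Group.IsSolvable N) :
    ∃ (A : Subgroup G) (q : ℕ), A.Normal ∧ A ≤ N ∧ A ≠ ⊥ ∧ q.Prime ∧
      (∀ a ∈ A, ∀ b ∈ A, Commute a b) ∧ (∀ a ∈ A, a ^ q = 1) ∧
      ∀ M : Subgroup G, M.Normal → M ≤ A → M = ⊥ ∨ M = A := by
  obtain ⟨A, hAn, hAN, hA0, hmin⟩ := exists_minNormal_le hN hne
  haveI := hAn
  haveI := hsol
  haveI : Group.IsSolvable A :=
    Group.isSolvable_of_isSolvable_injective (f := Subgroup.inclusion hAN) (Subgroup.inclusion_injective hAN)
  haveI : Nontrivial A := (Subgroup.nontrivial_iff_ne_bot A).2 hA0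
  have hcomm : ∀ a ∈ A, ∀ b ∈ A, Commute a b := by
    rcases hmin ⁅A, A⁆ inferInstance (Subgroup.commutator_le_right A A) with h | h
    · intro a ha b hb
      have := (Subgroup.mem_bot).1 (h ▸ Subgroup.commutator_mem_commutator ha hb)
      exact commutatorElement_eq_one_iff_mul_comm.1 this
    · exfalso
      have hlt : commutator A < ⊤ := Group.IsSolvable.commutator_lt_top_of_nontrivial A
      refine hlt.ne (Subgroup.map_injective A.subtype_injective ?_)
      rw [Subgroup.map_subtype_commutator, h, ← MonoidHom.range_eq_map, Subgroup.range_subtype]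
  obtain ⟨q, hq, hqd⟩ := Nat.exists_prime_and_dvd (Finite.one_lt_card (α := A)).ne'
  haveI := Fact.mk hq
  obtain ⟨a₀, ha₀⟩ := exists_prime_orderOf_dvd_card' q hqd
  let E : Subgroup G :=
    { carrier := {x | x ∈ A ∧ x ^ q = 1}
      one_mem' := ⟨one_mem A, one_pow q⟩
      mul_mem' := fun {x y} hx hy => ⟨mul_mem hx.1 hy.1, by
        rw [(hcomm x hx.1 y hy.1).mul_pow, hx.2, hy.2, one_mul]⟩
      inv_mem' := fun {x} hx => ⟨inv_mem hx.1, by rw [inv_pow, hx.2, inv_one]⟩ }
  have hEn : E.Normal := ⟨fun x hx g => ⟨hAn.conj_mem x hx.1 g, by rw [conj_pow, hx.2]; group⟩⟩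
  rcases hmin E hEn (fun x hx => hx.1) with h | h
  · exfalso
    have : (a₀ : G) ∈ E := ⟨a₀.2, by
      rw [← SubgroupClass.coe_pow, ← ha₀, pow_orderOf_eq_one, Subgroup.coe_one]⟩
    rw [h, Subgroup.mem_bot, OneMemClass.coe_eq_one] at this
    rw [this, orderOf_one] at ha₀
    exact hq.one_lt.ne ha₀
  · exact ⟨A, q, hAn, hAN, hA0, hq, hcomm, fun a ha => ((h.symm ▸ ha : a ∈ E)).2, hmin⟩

/-- Two subgroups of coprime index, a normal solvable and a solvable one, force solvability. -/
theorem solvable_of_coprime_index (C T : Subgroup G) [C.Normal] (hC : Group.IsSolvable C)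
    (hT : Group.IsSolvable T) (hcop : Nat.Coprime C.index T.index) : Group.IsSolvable G := by
  have htop : T ⊔ C = ⊤ := by
    rw [← Subgroup.index_eq_one]
    exact Nat.eq_one_of_dvd_coprimes hcop (Subgroup.index_dvd_of_le le_sup_right)
      (Subgroup.index_dvd_of_le le_sup_left)
  haveI := hT
  haveI := hC
  haveI : Group.IsSolvable (G ⧸ C) := Group.isSolvable_of_surjective
    (f := (QuotientGroup.mk' C).comp T.subtype) fun q => by
      obtain ⟨g, rfl⟩ := QuotientGroup.mk_surjective q
      obtain ⟨t, ht, c, hc, rfl⟩ := Subgroup.mem_sup_of_normal_right.1 (show g ∈ T ⊔ C by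
        rw [htop]; trivial)
      refine ⟨⟨t, ht⟩, ?_⟩
      show (t : G ⧸ C) = ((t * c : G) : G ⧸ C)
      rw [QuotientGroup.mk_mul, (QuotientGroup.eq_one_iff c).2 hc, mul_one]
  exact Group.isSolvable_of_ker_le_range C.subtype (QuotientGroup.mk' C)
    (by rw [QuotientGroup.ker_mk', Subgroup.range_subtype])

/-- Automorphisms of a group of prime order commute. -/
theorem mulAut_comm_of_prime {V : Type u} [Group V] {q : ℕ} [Fact q.Prime] (h : Nat.card V = q)
    (a b : MulAut V) : a * b = b * a := by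
  haveI : IsCyclic V := isCyclic_of_prime_card h
  obtain ⟨v, hv⟩ := IsCyclic.exists_generator (α := V)
  obtain ⟨i, hi⟩ := Subgroup.mem_zpowers_iff.1 (hv (a v))
  obtain ⟨j, hj⟩ := Subgroup.mem_zpowers_iff.1 (hv (b v))
  refine MulEquiv.ext fun w => ?_
  obtain ⟨k, rfl⟩ := Subgroup.mem_zpowers_iff.1 (hv w)
  simp only [MulAut.mul_apply, map_zpow, ← hi, ← hj, ← zpow_mul]
  congr 1
  ring

/-- The natural two-dimensional representation on a normal elementary abelian subgroup of order
`q ^ 2`. -/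
theorem exists_gl2_rep {q : ℕ} [Fact q.Prime] (A : Subgroup G) [A.Normal]
    (hc : ∀ a ∈ A, ∀ b ∈ A, Commute a b) (he : ∀ a ∈ A, a ^ q = 1)
    (hA : Nat.card A = q ^ 2) :
    ∃ φ : G →* GL (Fin 2) (ZMod q), φ.ker = Subgroup.centralizer (A : Set G) ∧
      ∀ g : G, (φ g : Matrix (Fin 2) (Fin 2) (ZMod q)) = -1 → ∀ a ∈ A, g * a * g⁻¹ = a⁻¹ := by
  classical
  have hq : q.Prime := Fact.out
  letI : CommGroup A :=
    { (inferInstance : Group A) with mul_comm := fun a b => Subtype.ext (hc a a.2 b b.2) }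
  have hn : ∀ x : Additive A, q • x = 0 := fun x => by
    show Additive.ofMul ((Additive.toMul x) ^ q) = 0
    rw [show (Additive.toMul x) ^ q = 1 from Subtype.ext (he _ (Additive.toMul x).2)]; rfl
  letI : Module (ZMod q) (Additive A) := AddCommGroup.zmodModule (n := q) hn
  haveI : Module.Finite (ZMod q) (Additive A) := Module.Finite.of_finite
  have hr : Module.finrank (ZMod q) (Additive A) = 2 := by
    have h := Nat.card_congr (Module.finBasis (ZMod q) (Additive A)).equivFun.toEquiv
    rw [Nat.card_fun, Nat.card_zmod, Nat.card_fin, ← Nat.card_congr Additive.ofMul, hA] at h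
    exact (Nat.pow_right_injective hq.two_le h).symm
  let b := Module.finBasisOfFinrankEq (ZMod q) (Additive A) hr
  let l : MulAut A →* (Additive A →ₗ[ZMod q] Additive A)ˣ :=
    MonoidHom.toHomUnits
      { toFun := fun φ => (MonoidHom.toAdditive (φ : A ≃* A).toMonoidHom).toZModLinearMap q
        map_one' := LinearMap.ext fun _ => rfl
        map_mul' := fun _ _ => LinearMap.ext fun _ => rfl }
  let m : MulAut A →* GL (Fin 2) (ZMod q) :=
    (Units.map (LinearMap.toMatrixAlgEquiv b).toMulEquiv.toMonoidHom).comp l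
  have key : ∀ (g : G) (a : A), Additive.toMul ((l (MulAut.conjNormal g) :
      Additive A →ₗ[ZMod q] Additive A) (Additive.ofMul a)) = MulAut.conjNormal g a := fun g a => rfl
  refine ⟨m.comp MulAut.conjNormal, ?_, fun g hg a ha => ?_⟩
  · ext g
    rw [MonoidHom.mem_ker, Subgroup.mem_centralizer_iff]
    constructor
    · intro hg a ha
      have h1 : (LinearMap.toMatrixAlgEquiv b) (l (MulAut.conjNormal g)).val = 1 :=
        congrArg Units.val hg
      rw [← map_one (LinearMap.toMatrixAlgEquiv b)] at h1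
      have h2 := key g ⟨a, ha⟩
      rw [(LinearMap.toMatrixAlgEquiv b).injective h1] at h2
      have h3 : a = g * a * g⁻¹ := by
        have := congrArg (Subtype.val : A → G) h2
        rwa [MulAut.conjNormal_apply] at this
      calc a * g = g * a * g⁻¹ * g := by rw [← h3]
        _ = g * a := by group
    · intro hg
      have : MulAut.conjNormal g = (1 : MulAut A) := MulEquiv.ext fun a => Subtype.ext (by
        rw [MulAut.conjNormal_apply, MulAut.one_apply, ← hg a a.2, mul_inv_cancel_right])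
      rw [MonoidHom.comp_apply, this, map_one]
  · have h1 : (LinearMap.toMatrixAlgEquiv b) (l (MulAut.conjNormal g)).val = -1 := hg
    rw [← map_one (LinearMap.toMatrixAlgEquiv b), ← map_neg] at h1
    have h2 := key g ⟨a, ha⟩
    rw [(LinearMap.toMatrixAlgEquiv b).injective h1] at h2
    have := congrArg (Subtype.val : A → G) h2
    rw [MulAut.conjNormal_apply] at this
    exact this.symm

/-- The kernel of a two-dimensional representation over the prime field. -/
theorem index_ker_dvd {q : ℕ} [Fact q.Prime] (φ : G →* GL (Fin 2) (ZMod q)) :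
    φ.ker.index ∣ q * ((q - 1) ^ 2 * (q + 1)) := by
  have hq : q.Prime := Fact.out
  rw [Subgroup.index_ker]
  refine (Subgroup.card_subgroup_dvd_card φ.range).trans ?_
  rw [Matrix.card_GL_field, ZMod.card]
  have h1 : q ^ 2 - 1 = (q + 1) * (q - 1) := by
    have := Nat.sq_sub_sq q 1
    rwa [one_pow] at this
  have h2 : q ^ 2 - q ^ 1 = q * (q - 1) := by rw [Nat.mul_sub, mul_one, sq, pow_one]
  simp only [Fin.prod_univ_two, Fin.val_zero, Fin.val_one, pow_zero, h1, h2]
  exact dvd_of_eq (by ring)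

theorem sq_not_dvd_gl2 {q : ℕ} (hq : q.Prime) : ¬ q ^ 2 ∣ q * ((q - 1) ^ 2 * (q + 1)) := by
  rw [sq, Nat.mul_dvd_mul_iff_left hq.pos]
  intro h
  rcases hq.dvd_mul.1 h with h | h
  · have := Nat.le_of_dvd (by have := hq.two_le; omega) (hq.dvd_of_dvd_pow h)
    have := hq.two_le
    omega
  · have h1 : q ∣ 1 := (Nat.dvd_add_right (dvd_refl q)).1 h
    exact hq.not_dvd_one h1

theorem not_dvd_gl2_of_lt {q r : ℕ} (hq : q.Prime) (hr : r.Prime) (h5 : 5 ≤ r) (hrq : r < q) :
    ¬ q ∣ r * ((r - 1) ^ 2 * (r + 1)) := by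
  intro h
  rcases hq.dvd_mul.1 h with h | h
  · exact absurd (Nat.le_of_dvd hr.pos h) (by omega)
  rcases hq.dvd_mul.1 h with h | h
  · exact absurd (Nat.le_of_dvd (by omega) (hq.dvd_of_dvd_pow h)) (by omega)
  · have hle := Nat.le_of_dvd (by omega) h
    have hqr : q = r + 1 := by omega
    have h2q := hq.eq_two_or_odd'.resolve_left (by omega)
    have h2r := hr.eq_two_or_odd'.resolve_left (by omega)
    rw [hqr, Nat.odd_add_one] at h2q
    exact h2q h2r

/-- A two-by-two involution of determinant one is minus one. -/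
theorem eq_neg_one_of_sq {F : Type*} [Field F] (h2 : (2 : F) ≠ 0) (M : Matrix (Fin 2) (Fin 2) F)
    (hsq : M * M = 1) (hdet : M.det = 1) (hne : M ≠ 1) : M = -1 := by
  have e00 := congrFun (congrFun hsq 0) 0
  have e01 := congrFun (congrFun hsq 0) 1
  have e10 := congrFun (congrFun hsq 1) 0
  have e11 := congrFun (congrFun hsq 1) 1
  simp only [Matrix.mul_apply, Fin.sum_univ_two, Matrix.one_apply_eq, ne_eq, Fin.zero_eq_one_iff,
    OfNat.ofNat_ne_one, not_false_eq_true, Matrix.one_apply_ne, Fin.one_eq_zero_iff] at e00 e01 e10 e11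
  rw [Matrix.det_fin_two] at hdet
  have ht : M 0 0 * (M 0 0 + M 1 1) = 2 := by linear_combination e00 + hdet
  have ht' : M 1 1 * (M 0 0 + M 1 1) = 2 := by linear_combination e11 + hdet
  have hs : M 0 0 + M 1 1 ≠ 0 := fun h => h2 (by rw [h, mul_zero] at ht; exact ht.symm)
  have hb : M 0 1 = 0 := by
    have : M 0 1 * (M 0 0 + M 1 1) = 0 := by linear_combination e01
    exact (mul_eq_zero.1 this).resolve_right hs
  have hc : M 1 0 = 0 := by
    have : M 1 0 * (M 0 0 + M 1 1) = 0 := by linear_combination e10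
    exact (mul_eq_zero.1 this).resolve_right hs
  have had : M 0 0 = M 1 1 := mul_right_cancel₀ hs (ht.trans ht'.symm)
  rw [hb, zero_mul, add_zero] at e00
  rcases mul_self_eq_one_iff.1 e00 with ha | ha
  · refine absurd ?_ hne
    ext i j
    fin_cases i <;> fin_cases j <;> simp_all
  · ext i j
    fin_cases i <;> fin_cases j <;> simp_all

end CfsgLib.CentralTypeSmall
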