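import Cfsg.Agent.Lib.CentralTypeSmall.Tw

/-!
# The pairing of a fully ramified section is nondegenerate
-/

namespace CfsgLib.CentralTypeSmall

open Cfsg CfsgLib.CharTheory CfsgLib.FullyRamified
open scoped ComplexConjugate

set_option linter.unusedSectionVars false
set_option linter.style.haveILetI false
set_option linter.unusedVariables false

universe u

variable {H : Type u} [Group H] [Fintype H] {Z : Subgroup H} [Z.Normal] {θ : Z → ℂ} {χ : H → ℂ}
  {e : ℕ}

/-- The character below a fully ramified one is invariant. -/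
theorem base_of_ramified (R : Ramified Z θ χ e) : Base Z θ where
  irr := R.irr
  inv g z w hw := by
    refine mul_left_cancel₀ (Nat.cast_ne_zero.2 R.e_ne_zero) ?_
    rw [← R.res, ← R.res, hw]
    exact isClassFunction_irr R.irrTop _ g

/-- No nontrivial element is good. -/
theorem exists_pairB_ne_one (R : Ramified Z θ χ e) {x : H ⧸ Z} (hx : x ≠ 1) :
    ∃ g : H ⧸ Z, Commute x g ∧ pairB Z θ x g ≠ 1 := by
  classical
  by_contra hall
  push Not at hall
  have hB := base_of_ramified R
  haveI := Fintype.ofFinite Z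
  set L := cyc Z x with hL
  haveI := Fintype.ofFinite L
  haveI := Fintype.ofFinite (Z.subgroupOf L)
  obtain ⟨ψ, hψ⟩ := exists_ext_cyc hB x
  have hfix : ∀ g : H, Commute x (g : H ⧸ Z) → Tw Z L ψ g 1 := fun g hg =>
    fixed_of_pairB hB hψ (abMod_cyc x) (cen_cyc hg) fun u hu => pairB_cyc hB hg (hall _ hg) hu
  obtain ⟨xh, hxh⟩ := QuotientGroup.mk_surjective x
  have hxL : xh ∈ L := by rw [hL, mem_cyc, hxh]; exact Subgroup.mem_zpowers x
  have hxZ : xh ∉ Z := fun h => hx (hxh ▸ (QuotientGroup.eq_one_iff xh).2 h)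
  -- on every lift the extension vanishes
  have hzero : ∀ y : L, ((y : H) : H ⧸ Z) = x → ψ y = 0 := by
    intro y hy
    set F : L → ℂ := fun l => if ((l : H) : H ⧸ Z) = x then ψ l else 0 with hF
    have hF0 : ∀ ξ : IrrCharacter H, classInner F (fun l : L => (ξ : H → ℂ) l) = 0 := by
      intro ξ
      have hsum : ∀ l : L, F l * conj ((ξ : H → ℂ) l) =
          if ((l : H) : H ⧸ Z) = x then ψ l * conj ((ξ : H → ℂ) l) else 0 := fun l => by
        simp only [hF]; split_ifs <;> simp
      simp only [classInner, hsum]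
      rw [← Finset.sum_filter]
      by_cases hξ : (ξ : H → ℂ) = χ
      · rw [Finset.sum_eq_zero, mul_zero]
        intro l hl
        have hlZ : (l : H) ∉ Z := fun hlZ => hx (by
          rw [← (Finset.mem_filter.1 hl).2]; exact (QuotientGroup.eq_one_iff _).2 hlZ)
        rw [hξ, R.vanish hlZ, map_zero, mul_zero]
      · have hY : IsCharacter L (fun l : L => conj ((ξ : H → ℂ) l)) :=
          isCharacter_restrict (isCharacter_conj (isCharacter_of_irr ξ.2)) L
        have hA := isCharacter_cosetAvg (Z.subgroupOf L) (isCharacter_mul (isCharacter_of_irr hψ.irr) hY)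
        have h1 : cosetAvg (Z.subgroupOf L) (ψ * fun l : L => conj ((ξ : H → ℂ) l)) 1 = 0 := by
          rw [← R.inner_eq_zero ξ.2 hξ, ← classInner_equiv (Subgroup.subgroupOfEquivOfLe (le_cyc x))]
          simp only [cosetAvg, classInner, Pi.mul_apply, mul_one]
          congr 1
          refine Finset.sum_congr rfl fun n _ => ?_
          rw [hψ.res _ (Subgroup.mem_subgroupOf.1 n.2)]
          rfl
        have h2 := norm_char_le hA (⟨xh, hxL⟩ : L)
        rw [h1, norm_zero, norm_le_zero_iff] at h2
        simp only [cosetAvg, mul_eq_zero, inv_eq_zero, Nat.cast_eq_zero, Nat.card_pos.ne', false_or] at h2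
        refine mul_eq_zero_of_right _ (Eq.trans ?_ h2)
        refine Finset.sum_bij' (fun l hl => (⟨l * (⟨xh, hxL⟩ : L)⁻¹, ?_⟩ : Z.subgroupOf L))
          (fun n _ => (n : L) * ⟨xh, hxL⟩) (fun _ _ => Finset.mem_univ _) (fun n _ => ?_)
          (fun l _ => ?_) (fun n _ => ?_) (fun l hl => ?_)
        · rw [Subgroup.mem_subgroupOf, ← QuotientGroup.eq_one_iff]
          show (((l : H) * xh⁻¹ : H) : H ⧸ Z) = 1
          rw [QuotientGroup.mk_mul, QuotientGroup.mk_inv, (Finset.mem_filter.1 hl).2, hxh,
            mul_inv_cancel]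
        · refine Finset.mem_filter.2 ⟨Finset.mem_univ _, ?_⟩
          show ((((n : L) : H) * xh : H) : H ⧸ Z) = _
          rw [QuotientGroup.mk_mul, (QuotientGroup.eq_one_iff (((n : L) : H))).2
            (Subgroup.mem_subgroupOf.1 n.2), one_mul, hxh]
        · simp
        · exact Subtype.ext (mul_inv_cancel_right _ _)
        · simp
    have hI : indFun L F = 0 := by
      refine eq_zero_of_orthogonal (indFun_isClassFunction L F) fun ξ hξ => ?_
      rw [frobenius_reciprocity L F (isClassFunction_irr hξ)]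
      exact hF0 ⟨ξ, hξ⟩
    have h3 := congrFun hI (y : H)
    simp only [indFun, Pi.zero_apply, mul_eq_zero, inv_eq_zero, Nat.cast_eq_zero, Nat.card_pos.ne',
      false_or] at h3
    have h4 : ∀ g : H, extendByZero L F (g⁻¹ * (y : H) * g) =
        if Commute x (g : H ⧸ Z) then ψ y else 0 := by
      intro g
      split_ifs with hg
      · have hconj : g⁻¹ * (y : H) * g ∈ L := by
          refine mem_cyc.2 ?_
          rw [QuotientGroup.mk_mul, QuotientGroup.mk_mul, QuotientGroup.mk_inv, hy,
            mul_assoc, hg.eq, inv_mul_cancel_left]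
          exact Subgroup.mem_zpowers x
        rw [extendByZero_of_mem L F hconj]
        simp only [hF]
        rw [if_pos (by
          rw [QuotientGroup.mk_mul, QuotientGroup.mk_mul, QuotientGroup.mk_inv, hy,
            mul_assoc, hg.eq, inv_mul_cancel_left])]
        have := (hfix g hg).conj ⟨_, hconj⟩ y (by group)
        rw [MonoidHom.one_apply, one_mul] at this
        exact this.symm
      · by_cases hm : g⁻¹ * (y : H) * g ∈ L
        · rw [extendByZero_of_mem L F hm]
          simp only [hF]
          rw [if_neg]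
          intro he
          refine hg ?_
          rw [QuotientGroup.mk_mul, QuotientGroup.mk_mul, QuotientGroup.mk_inv, hy] at he
          calc x * (g : H ⧸ Z) = (g : H ⧸ Z) * ((g : H ⧸ Z)⁻¹ * x * (g : H ⧸ Z)) := by group
            _ = _ := by rw [he]
        · exact extendByZero_of_not_mem L F hm
    rw [Finset.sum_congr rfl fun g _ => h4 g, ← Finset.sum_filter, Finset.sum_const, nsmul_eq_mul,
      mul_eq_zero, Nat.cast_eq_zero, Finset.card_eq_zero] at h3
    exact h3.resolve_left (Finset.ne_empty_of_mem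
      (Finset.mem_filter.2 ⟨Finset.mem_univ (1 : H), by simp⟩))
  have h := congrFun (cosetAvg_mul_conj (Z.subgroupOf L) hψ.irr (hψ.resIrr hB)) (⟨xh, hxL⟩ : L)
  simp only [cosetAvg, Pi.mul_apply] at h
  rw [Finset.sum_eq_zero, mul_zero] at h
  · exact zero_ne_one h
  intro n _
  rw [hzero, zero_mul]
  show ((((n : L) : H) * xh : H) : H ⧸ Z) = _
  rw [QuotientGroup.mk_mul, (QuotientGroup.eq_one_iff (((n : L) : H))).2
    (Subgroup.mem_subgroupOf.1 n.2), one_mul, hxh]

/-- A central element of prime order of a Sylow subgroup pairs nontrivially with it. -/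
theorem exists_pairB_ne_one_sylow (R : Ramified Z θ χ e) {p : ℕ} [hp : Fact p.Prime]
    (P : Sylow p (H ⧸ Z)) {x : H ⧸ Z} (hx : x ≠ 1) (hxp : x ^ p = 1)
    (hxP : ∀ y ∈ (P : Subgroup (H ⧸ Z)), Commute x y) :
    ∃ y ∈ (P : Subgroup (H ⧸ Z)), pairB Z θ x y ≠ 1 := by
  by_contra hall
  push Not at hall
  have hB := base_of_ramified R
  obtain ⟨g, hg, hgne⟩ := exists_pairB_ne_one R hx
  set C := Subgroup.centralizer ({x} : Set (H ⧸ Z)) with hC
  have hCm : ∀ c ∈ C, Commute x c := fun c hc => (Subgroup.mem_centralizer_singleton_iff.1 hc).symm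
  let f : C →* ℂ :=
    { toFun := fun c => pairB Z θ x c
      map_one' := pairB_one_right hB x
      map_mul' := fun a b => pairB_mul_right hB (hCm a a.2) (hCm b b.2) }
  have hf : ∀ c : C, ((f.toHomUnits c : ℂˣ) : ℂ) = pairB Z θ x (c : H ⧸ Z) := fun c => rfl
  have hPC : (P : Subgroup (H ⧸ Z)) ≤ C := fun y hy =>
    Subgroup.mem_centralizer_singleton_iff.2 (hxP y hy).symm.eq
  have hPk : (P : Subgroup (H ⧸ Z)).subgroupOf C ≤ f.toHomUnits.ker := fun y hy => by
    rw [MonoidHom.mem_ker]
    exact Units.ext ((hf y).trans (hall _ hy))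
  have hdvd : f.toHomUnits.ker.index ∣ (P : Subgroup (H ⧸ Z)).index :=
    (Subgroup.index_dvd_of_le hPk).trans (Dvd.intro _ (Subgroup.relIndex_mul_index hPC))
  have hcop : Nat.Coprime p f.toHomUnits.ker.index :=
    (hp.out.coprime_iff_not_dvd.2 P.not_dvd_index).coprime_dvd_right hdvd
  set c : C := ⟨g, Subgroup.mem_centralizer_singleton_iff.2 hg.symm.eq⟩ with hc
  have h1 : f.toHomUnits c ^ p = 1 := Units.ext (by
    rw [Units.val_pow_eq_pow_val, hf, pairB_pow_eq_one hB hg hxp, Units.val_one])
  have h2 : f.toHomUnits c ^ f.toHomUnits.ker.index = 1 := by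
    rw [← map_pow, ← MonoidHom.mem_ker]
    exact Subgroup.pow_index_mem _ _
  have h3 := pow_gcd_eq_one.2 ⟨h1, h2⟩
  rw [hcop, pow_one] at h3
  exact hgne (by rw [← hf c, h3, Units.val_one])

end CfsgLib.CentralTypeSmall
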