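import Cfsg.Agent.Lib.WalterUse.Ward.Final
import Cfsg.Agent.Lib.WalterUse.SimpleCases
import Cfsg.Agent.Lib.WalterUse.TorusCent
import Cfsg.Agent.Lib.PSL2Spectrum
import Cfsg.Agent.Lib.DicksonFull.Subgroups
import Cfsg.Agent.Lib.ReeSylowCyclic

/-!
# Simple groups with a cyclic Sylow subgroup
-/

namespace CfsgLib.CentralTypeSmall

open Cfsg CfsgLib

set_option linter.unusedSectionVars false
set_option linter.style.haveILetI false
set_option linter.unusedVariables false

universe u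

local notation "PSL₂[" K "]" => Matrix.ProjectiveSpecialLinearGroup (Fin 2) K

/-- Some nontrivial Sylow subgroup is cyclic. -/
def HasCyclicSylow (G : Type u) [Group G] : Prop :=
  ∃ (p : ℕ) (P : Sylow p G), p.Prime ∧ p ∣ Nat.card G ∧ IsCyclic (P : Subgroup G)

theorem hasCyclicSylow_of_elem {G : Type u} [Group G] [Finite G] {p : ℕ} (hp : p.Prime) (g : G)
    (hd : p ∣ orderOf g) (h : (Nat.card G).factorization p ≤ (orderOf g).factorization p) :
    HasCyclicSylow G := by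
  haveI := Fact.mk hp
  exact ⟨p, default, hp, hd.trans (orderOf_dvd_natCard g),
    ReeSylowCyclic.sylow_cyclic_of_elem default g h⟩

theorem hasCyclicSylow_of_prime_once {G : Type u} [Group G] [Finite G] {p : ℕ} (hp : p.Prime)
    (hd : p ∣ Nat.card G) (h : (Nat.card G).factorization p ≤ 1) : HasCyclicSylow G := by
  haveI := Fact.mk hp
  obtain ⟨g, hg⟩ := exists_prime_orderOf_dvd_card' p hd
  refine hasCyclicSylow_of_elem hp g (hg ▸ dvd_rfl) ?_
  rw [hg, hp.factorization_self]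
  exact h

/-- An odd prime divides `q² - 1` for `q ≥ 4`. -/
theorem exists_odd_prime_pm {q : ℕ} (hq : 4 ≤ q) :
    ∃ r : ℕ, r.Prime ∧ r ≠ 2 ∧ (r ∣ q - 1 ∨ r ∣ q + 1) := by
  by_cases h : ∃ r : ℕ, r.Prime ∧ r ≠ 2 ∧ r ∣ q - 1
  · obtain ⟨r, h1, h2, h3⟩ := h
    exact ⟨r, h1, h2, Or.inl h3⟩
  push Not at h
  have hpow : q - 1 = 2 ^ (q - 1).primeFactorsList.length :=
    Nat.eq_prime_pow_of_unique_prime_dvd (by omega) fun {d} hd hdd => by
      by_contra hne
      exact h d hd hne hdd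
  obtain ⟨a, ha⟩ : ∃ a, q - 1 = 2 ^ a := ⟨_, hpow⟩
  obtain ⟨b, rfl⟩ : ∃ b, a = b + 2 := by
    rcases a with _ | _ | b
    · simp only [pow_zero] at ha; omega
    · simp only [zero_add, pow_one] at ha; omega
    · exact ⟨b, rfl⟩
  have he : q + 1 = 2 * (2 ^ (b + 1) + 1) := by
    rw [show q + 1 = q - 1 + 2 by omega, ha, pow_succ]
    ring
  obtain ⟨r, hr, hrd⟩ := Nat.exists_prime_and_dvd (n := 2 ^ (b + 1) + 1) (by
    have : 0 < 2 ^ (b + 1) := pow_pos (by norm_num) _
    omega)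
  refine ⟨r, hr, fun h2 => ?_, Or.inr (he ▸ dvd_mul_of_dvd_right hrd 2)⟩
  subst h2
  have h1 : (2 : ℕ) ∣ 2 ^ (b + 1) := dvd_pow_self 2 (Nat.succ_ne_zero b)
  exact absurd ((Nat.dvd_add_right h1).1 hrd) (by norm_num)

theorem hasCyclicSylow_psl {G : Type u} [Group G] [Finite G] {F : Type} [Field F] [Fintype F]
    (h4 : 4 ≤ Fintype.card F) (e : G ≃* PSL₂[F]) : HasCyclicSylow G := by
  classical
  obtain ⟨p, hcp⟩ := CharP.exists F
  haveI := hcp
  obtain ⟨f, hp, hqp⟩ := FiniteField.card F p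
  haveI := Fact.mk hp
  set q := Fintype.card F with hq
  obtain ⟨r, hr, hr2, hrd⟩ := exists_odd_prime_pm h4
  set d := Nat.gcd 2 (q - 1) with hd
  have hd2 : d ∣ 2 := Nat.gcd_dvd_left _ _
  have hd1 : d ∣ q - 1 := Nat.gcd_dvd_right _ _
  have hd1' : d ∣ q + 1 := by
    rw [show q + 1 = q - 1 + 2 by omega]
    exact dvd_add hd1 hd2
  have hrnd : ¬ r ∣ d := fun h => hr2 ((Nat.prime_dvd_prime_iff_eq hr Nat.prime_two).1 (h.trans hd2))
  have hrnq : ¬ r ∣ q := fun h => by
    rcases hrd with h' | h'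
    · have := Nat.dvd_sub h h'
      rw [show q - (q - 1) = 1 by omega] at this
      exact hr.not_dvd_one this
    · exact hr.not_dvd_one ((Nat.dvd_add_right h).1 h')
  obtain ⟨A, B, hAB, hdA, hrA, hrB, hord⟩ : ∃ A B : ℕ, A * B = q ^ 2 - 1 ∧ d ∣ A ∧ r ∣ A ∧ ¬ r ∣ B ∧
      ∃ x : PSL₂[F], orderOf x = A / d := by
    have hsq : q ^ 2 - 1 = (q + 1) * (q - 1) := by
      have := Nat.sq_sub_sq q 1
      rwa [one_pow] at this
    rcases hrd with h | h
    · refine ⟨q - 1, q + 1, by rw [hsq, mul_comm], hd1, h, fun h' => ?_,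
        (PSL2Spectrum.psl_orders (F := F) p _).2 (Or.inl (by rw [hd, Nat.gcd_comm]))⟩
      have := Nat.dvd_sub h' h
      rw [show q + 1 - (q - 1) = 2 by omega] at this
      exact hr2 ((Nat.prime_dvd_prime_iff_eq hr Nat.prime_two).1 this)
    · refine ⟨q + 1, q - 1, hsq.symm, hd1', h, fun h' => ?_,
        (PSL2Spectrum.psl_orders (F := F) p _).2 (Or.inr (Or.inl (by rw [hd, Nat.gcd_comm])))⟩
      have := Nat.dvd_sub h h'
      rw [show q + 1 - (q - 1) = 2 by omega] at this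
      exact hr2 ((Nat.prime_dvd_prime_iff_eq hr Nat.prime_two).1 this)
  obtain ⟨x, hx⟩ := hord
  obtain ⟨n, rfl⟩ := hdA
  have hd0 : 0 < d := Nat.gcd_pos_of_pos_left _ (by norm_num)
  rw [Nat.mul_div_cancel_left _ hd0] at hx
  have hxo : orderOf (e.symm x) = n := by rw [MulEquiv.orderOf_eq, hx]
  have hrn : r ∣ n := (hr.dvd_mul.1 hrA).resolve_left hrnd
  refine hasCyclicSylow_of_elem hr (e.symm x) (hxo ▸ hrn) ?_
  rw [hxo, Nat.card_congr e.toEquiv]
  have hc := DicksonFull.card_psl (F := F)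
  rw [← hq, ← hd, ← hAB] at hc
  have hn0 : n ≠ 0 := fun h0 => (orderOf_pos (e.symm x)).ne' (hxo.trans h0)
  have hB0 : B ≠ 0 := fun h0 => hrB (h0 ▸ dvd_zero r)
  have h1 := congrArg (fun m => m.factorization r) hc
  simp only [Nat.factorization_mul hd0.ne' Nat.card_pos.ne',
    Nat.factorization_mul (show q ≠ 0 by omega) (mul_ne_zero (mul_ne_zero hd0.ne' hn0) hB0),
    Nat.factorization_mul (mul_ne_zero hd0.ne' hn0) hB0, Nat.factorization_mul hd0.ne' hn0,
    Finsupp.add_apply, Nat.factorization_eq_zero_of_not_dvd hrnd,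
    Nat.factorization_eq_zero_of_not_dvd hrnq, Nat.factorization_eq_zero_of_not_dvd hrB] at h1
  omega

theorem hasCyclicSylow_ree {G : Type u} [Group G] [Fintype G] (h : WalterUse.ReeCase G) :
    HasCyclicSylow G := by
  classical
  obtain ⟨F, _, _, _, C, hqF, R⟩ := h
  have hz : C.D.z ≠ 1 := by
    have := R.q_z
    have := R.seven_q
    omega
  obtain ⟨l, hl, hld⟩ := Nat.exists_prime_and_dvd hz
  haveI := C.D.cycZ
  obtain ⟨g, hg⟩ := IsCyclic.exists_ofOrder_eq_natCard (α := C.D.Z)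
  have ho : orderOf (C.E (g : PSL₂[F])) = C.D.z := by
    rw [orderOf_injective C.E C.E_inj, Subgroup.orderOf_coe, hg, C.D.cardZ]
  refine hasCyclicSylow_of_elem hl (C.E (g : PSL₂[F])) (ho ▸ hld) ?_
  rw [ho, R.factorization_z hl hld]

theorem hasCyclicSylow_of_gwModel {G : Type u} [Group G] [Finite G] (h : GW.GWModel G) :
    HasCyclicSylow G := by
  rcases h with ⟨F, _, _, hodd, h3, ⟨e⟩⟩ | ⟨⟨e⟩⟩
  · exact hasCyclicSylow_psl (by omega) e
  · have hc : Nat.card G = 2520 := by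
      rw [Nat.card_congr e.toEquiv, nat_card_alternatingGroup, Nat.card_fin]
      rfl
    refine hasCyclicSylow_of_prime_once (p := 5) (by norm_num) (hc ▸ by norm_num) ?_
    rw [hc]
    by_contra hlt
    have := (Nat.Prime.pow_dvd_iff_le_factorization (p := 5) (k := 2) (n := 2520) (by norm_num)
      (by norm_num)).2 (by omega)
    norm_num at this

theorem hasCyclicSylow_of_abelian_two {G : Type u} [Group G] [Finite G] [IsSimpleGroup G]
    (hG : ¬ IsMulCommutative G) (S : Sylow 2 G) (hS : IsMulCommutative (S : Subgroup G)) :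
    HasCyclicSylow G := by
  classical
  letI := Fintype.ofFinite G
  rcases WalterUse.Ward.abKind_of hG S hS with ⟨F, h4, hq, e⟩ | hR | hJ
  · exact hasCyclicSylow_psl h4 e
  · exact hasCyclicSylow_ree hR
  · have hc : Nat.card G = 175560 := WalterUse.Ward.card_of_isoJ1 hJ
    refine hasCyclicSylow_of_prime_once (p := 5) (by norm_num) (hc ▸ by norm_num) ?_
    rw [hc]
    by_contra hlt
    have := (Nat.Prime.pow_dvd_iff_le_factorization (p := 5) (k := 2) (n := 175560) (by norm_num)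
      (by norm_num)).2 (by omega)
    norm_num at this

end CfsgLib.CentralTypeSmall
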