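import Cfsg.Agent.Lib.FullyRamified.Quotient

/-!
# Twists of extensions of an invariant character and the commutator pairing
-/

namespace CfsgLib.CentralTypeSmall

open Cfsg CfsgLib.CharTheory CfsgLib.FullyRamified

set_option linter.unusedSectionVars false
set_option linter.style.haveILetI false
set_option linter.unusedVariables false

universe u

/-- A character with irreducible restriction to a subgroup is irreducible. -/
theorem irr_of_res {A : Type u} [Group A] [Fintype A] (N : Subgroup A) [Fintype N] {ψ : A → ℂ}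
    (hψ : IsCharacter A ψ) (hres : IsIrrCharacter N (fun n : N => ψ n)) : IsIrrCharacter A ψ := by
  classical
  obtain ⟨η, hη, hc⟩ := exists_constituent hψ fun h0 => irr_ne_zero hres (congrFun h0 1)
  have hd := isCharacter_sub_irr hψ hη hc
  have hdr : IsCharacter N (fun n : N => (ψ - η) n) := isCharacter_restrict hd N
  have hηr : IsCharacter N (fun n : N => η n) := isCharacter_restrict (isCharacter_of_irr hη) N
  set θ : N → ℂ := fun n => ψ n with hθdef
  have hsplit : θ = (fun n : N => (ψ - η) n) + fun n : N => η n := by funext n; simp [hθdef]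
  have hsum : ∀ φ, IsIrrCharacter N φ → ∀ a b : ℕ, classInner (fun n : N => (ψ - η) n) φ = a →
      classInner (fun n : N => η n) φ = b → (a + b ≠ 0 → φ = θ) ∧ a + b ≤ 1 := by
    intro φ hφ a b ha hb
    have h1 : classInner θ φ = ((a + b : ℕ) : ℂ) := by
      rw [hsplit, classInner_add_left, ha, hb, Nat.cast_add]
    rw [classInner_irr hres hφ] at h1
    split_ifs at h1 with hθφ
    · refine ⟨fun _ => hθφ.symm, ?_⟩
      have : 1 = a + b := by exact_mod_cast h1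
      omega
    · have : a + b = 0 := by exact_mod_cast h1.symm
      exact ⟨fun h => absurd this h, by omega⟩
  have hd0 : (fun n : N => (ψ - η) n) = 0 := by
    by_contra hne
    obtain ⟨φ, hφ, hφc⟩ := exists_constituent hdr hne
    obtain ⟨a, ha⟩ := classInner_char_nat hdr (isCharacter_of_irr hφ)
    obtain ⟨b, hb⟩ := classInner_char_nat hηr (isCharacter_of_irr hφ)
    have ha0 : a ≠ 0 := fun h => hφc (by rw [ha, h, Nat.cast_zero])
    obtain ⟨hφθ, hab⟩ := hsum φ hφ a b ha hb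
    obtain ⟨φ', hφ', hφc'⟩ := exists_constituent hηr fun h0 => irr_ne_zero hη (congrFun h0 1)
    obtain ⟨a', ha'⟩ := classInner_char_nat hdr (isCharacter_of_irr hφ')
    obtain ⟨b', hb'⟩ := classInner_char_nat hηr (isCharacter_of_irr hφ')
    have hb0 : b' ≠ 0 := fun h => hφc' (by rw [hb', h, Nat.cast_zero])
    have e1 := hφθ (by omega)
    have e2 := (hsum φ' hφ' a' b' ha' hb').1 (by omega)
    subst e1
    subst e2
    have : a = a' := by exact_mod_cast ha.symm.trans ha'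
    have := (hsum _ hφ' a' b' ha' hb').2
    omega
  have h1 : (ψ - η) 1 = 0 := congrFun hd0 1
  rw [sub_eq_zero.1 (eq_zero_of_degree_zero hd h1)]
  exact hη

variable {H : Type u} [Group H]

/-- `g` centralises `U` modulo `Z`. -/
def Cen (Z U : Subgroup H) (g : H) : Prop := ∀ u ∈ U, g * u * g⁻¹ * u⁻¹ ∈ Z

/-- `U` is abelian modulo `Z`. -/
def AbMod (Z U : Subgroup H) : Prop := ∀ g ∈ U, Cen Z U g

theorem cen_iff {Z U : Subgroup H} [Z.Normal] {g : H} :
    Cen Z U g ↔ ∀ u ∈ U, Commute (g : H ⧸ Z) (u : H ⧸ Z) := by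
  refine forall₂_congr fun u _ => ?_
  rw [← QuotientGroup.eq_one_iff]
  simp only [QuotientGroup.mk_mul, QuotientGroup.mk_inv]
  rw [mul_inv_eq_one, mul_inv_eq_iff_eq_mul]
  exact Iff.rfl

theorem abMod_iff {Z U : Subgroup H} [Z.Normal] :
    AbMod Z U ↔ ∀ g ∈ U, ∀ u ∈ U, Commute (g : H ⧸ Z) (u : H ⧸ Z) :=
  forall₂_congr fun g _ => cen_iff

theorem Cen.conj_mem {Z U : Subgroup H} {g : H} (h : Cen Z U g) (hZU : Z ≤ U) {u : H} (hu : u ∈ U) :
    g * u * g⁻¹ ∈ U := by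
  simpa using U.mul_mem (hZU (h u hu)) hu

/-- An invariant irreducible character of the normal subgroup. -/
structure Base (Z : Subgroup H) (θ : Z → ℂ) : Prop where
  irr : IsIrrCharacter Z θ
  inv : ∀ (g : H) (z w : Z), (w : H) = g * (z : H) * g⁻¹ → θ w = θ z

/-- An irreducible character of `U` extending `θ`. -/
structure Ext (Z : Subgroup H) (θ : Z → ℂ) (U : Subgroup H) (Ψ : U → ℂ) : Prop where
  le : Z ≤ U
  irr : IsIrrCharacter U Ψ
  res : ∀ (u : U) (h : (u : H) ∈ Z), Ψ u = θ ⟨u, h⟩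

/-- `g` multiplies `Ψ` by the linear character `l`. -/
structure Tw (Z U : Subgroup H) (Ψ : U → ℂ) (g : H) (l : U →* ℂ) : Prop where
  cen : Cen Z U g
  ker : ∀ u : U, (u : H) ∈ Z → l u = 1
  conj : ∀ u v : U, (v : H) = g * (u : H) * g⁻¹ → Ψ v = l u * Ψ u

variable {Z U V : Subgroup H} {θ : Z → ℂ} {Ψ : U → ℂ}

theorem Tw.eq_of_mod {g : H} {l : U →* ℂ} (hT : Tw Z U Ψ g l) {u v : U}
    (h : ((v : H) * (u : H)⁻¹) ∈ Z) : l v = l u := by
  have h1 : l (v * u⁻¹) = 1 := hT.ker _ h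
  calc l v = l (v * u⁻¹ * u) := by rw [inv_mul_cancel_right]
    _ = l u := by rw [map_mul, h1, one_mul]

theorem Tw.restrict {g : H} {Φ : V → ℂ} {l : V →* ℂ} (hT : Tw Z V Φ g l) (h : U ≤ V) :
    Tw Z U (resSub h Φ) g (l.comp (Subgroup.inclusion h)) where
  cen u hu := hT.cen u (h hu)
  ker u hu := hT.ker _ hu
  conj u v hv := hT.conj (Subgroup.inclusion h u) (Subgroup.inclusion h v) hv

theorem Tw.one_of_mem [Finite H] (hE : Ext Z θ U Ψ) (hU : AbMod Z U) {g : H} (hg : g ∈ U) :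
    Tw Z U Ψ g 1 where
  cen := hU g hg
  ker _ _ := rfl
  conj u v hv := by
    rw [show v = (⟨g, hg⟩ : U) * u * (⟨g, hg⟩ : U)⁻¹ from Subtype.ext hv,
      isClassFunction_irr hE.irr u ⟨g, hg⟩, MonoidHom.one_apply, one_mul]

theorem Tw.mul {a b : H} {la lb : U →* ℂ} (hZU : Z ≤ U) (ha : Tw Z U Ψ a la)
    (hb : Tw Z U Ψ b lb) : Tw Z U Ψ (a * b) (la * lb) where
  cen u hu := by
    have hw : b * u * b⁻¹ ∈ U := hb.cen.conj_mem hZU hu
    rw [show a * b * u * (a * b)⁻¹ * u⁻¹ =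
      (a * (b * u * b⁻¹) * a⁻¹ * (b * u * b⁻¹)⁻¹) * (b * u * b⁻¹ * u⁻¹) by group]
    exact Z.mul_mem (ha.cen _ hw) (hb.cen u hu)
  ker u hu := by rw [MonoidHom.mul_apply, ha.ker u hu, hb.ker u hu, one_mul]
  conj u v hv := by
    set w : U := ⟨b * u * b⁻¹, hb.cen.conj_mem hZU u.2⟩ with hw
    rw [ha.conj w v (by rw [hv, hw]; group), hb.conj u w rfl, ha.eq_of_mod (hb.cen u u.2),
      MonoidHom.mul_apply, mul_assoc]

theorem Tw.mul_mem_right [Finite H] (hE : Ext Z θ U Ψ) (hU : AbMod Z U) {g z : H}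
    {l : U →* ℂ} (hT : Tw Z U Ψ g l) (hz : z ∈ U) : Tw Z U Ψ (g * z) l := by
  simpa using hT.mul hE.le (Tw.one_of_mem hE hU hz)

variable [Fintype H] [Z.Normal]

theorem Ext.resIrr [Fintype (Z.subgroupOf U)] (hB : Base Z θ) (hE : Ext Z θ U Ψ) :
    IsIrrCharacter (Z.subgroupOf U) (fun n : Z.subgroupOf U => Ψ n) := by
  rw [show (fun n : Z.subgroupOf U => Ψ n) = fun n : Z.subgroupOf U => θ ⟨((n : U) : H), Subgroup.mem_subgroupOf.1 n.2⟩
    from funext fun n => hE.res n _]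
  exact isIrr_subgroupOf Z hE.le hB.irr

theorem Ext.restrict (hB : Base Z θ) {Φ : V → ℂ} (hE : Ext Z θ V Φ) (h : U ≤ V) (hZU : Z ≤ U) :
    Ext Z θ U (resSub h Φ) where
  le := hZU
  res u hu := hE.res (Subgroup.inclusion h u) hu
  irr := by
    classical
    haveI := Fintype.ofFinite U
    haveI := Fintype.ofFinite (Z.subgroupOf U)
    refine irr_of_res (Z.subgroupOf U)
      (isCharacter_comp (isCharacter_of_irr hE.irr) (Subgroup.inclusion h)) ?_
    rw [show (fun n : Z.subgroupOf U => resSub h Φ (n : U)) =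
      fun n : Z.subgroupOf U => θ ⟨((n : U) : H), Subgroup.mem_subgroupOf.1 n.2⟩
      from funext fun n => hE.res _ (Subgroup.mem_subgroupOf.1 n.2)]
    exact isIrr_subgroupOf Z hZU hB.irr

/-- Twists are unique. -/
theorem Tw.unique (hB : Base Z θ) (hE : Ext Z θ U Ψ) {g : H} {l l' : U →* ℂ}
    (h : Tw Z U Ψ g l) (h' : Tw Z U Ψ g l') : l = l' := by
  classical
  haveI := Fintype.ofFinite U
  haveI := Fintype.ofFinite (Z.subgroupOf U)
  have hlin : ∀ f : U →* ℂ, IsIrrCharacter U (fun u => f u) := fun f =>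
    isIrrCharacter_linear f.toHomUnits
  have key : (fun u => l u) = fun u => l' u := by
    refine (gallagher (Z.subgroupOf U) (isCharacter_of_irr hE.irr) (hE.resIrr hB)).2.1 _ _ (hlin l)
      (fun n hn => by rw [h.ker n hn, map_one]) (hlin l') (fun n hn => by rw [h'.ker n hn, map_one]) ?_
    funext u
    have hv := h.cen.conj_mem hE.le u.2
    exact (h.conj u ⟨_, hv⟩ rfl).symm.trans (h'.conj u ⟨_, hv⟩ rfl)
  exact MonoidHom.ext fun u => congrFun key u

theorem abMod_subgroupOf (hU : AbMod Z U) :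
    ∀ a b : U, a * b * a⁻¹ * b⁻¹ ∈ Z.subgroupOf U := fun a b =>
  Subgroup.mem_subgroupOf.2 (hU a a.2 b b.2)

/-- An element centralising `U` modulo `Z` acts by a twist. -/
theorem exists_tw (hB : Base Z θ) (hE : Ext Z θ U Ψ) (hU : AbMod Z U) {g : H} (hg : Cen Z U g) :
    ∃ l : U →* ℂ, Tw Z U Ψ g l := by
  classical
  haveI := Fintype.ofFinite U
  haveI := Fintype.ofFinite (Z.subgroupOf U)
  let φ : U →* U := ((MulAut.conj g).toMonoidHom.comp U.subtype).codRestrict U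
    fun u => hg.conj_mem hE.le u.2
  have hφ : ∀ u : U, ((φ u : U) : H) = g * u * g⁻¹ := fun u => rfl
  have hφs : Function.Surjective φ := Finite.injective_iff_surjective.1 fun a b hab =>
    Subtype.ext ((MulAut.conj g).injective (congrArg Subtype.val hab))
  have hψ : IsIrrCharacter U (fun u => Ψ (φ u)) := isIrrCharacter_comp_surjective hE.irr φ hφs
  obtain ⟨β, hβ, hk, he⟩ := (gallagher (Z.subgroupOf U) (isCharacter_of_irr hE.irr)
    (hE.resIrr hB)).2.2 _ hψ (by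
      rw [show (fun n : Z.subgroupOf U => Ψ (φ (n : U))) = fun n : Z.subgroupOf U => Ψ n from
        funext fun n => by
          have hn : ((n : U) : H) ∈ Z := Subgroup.mem_subgroupOf.1 n.2
          have hn' : ((φ (n : U) : U) : H) ∈ Z := Subgroup.Normal.conj_mem inferInstance _ hn g
          rw [hE.res _ hn, hE.res _ hn']
          exact hB.inv g ⟨_, hn⟩ ⟨_, hn'⟩ (hφ _)]
      rw [classInner_irr_self (hE.resIrr hB)]
      exact one_ne_zero)
  have hd := irr_degree_one_of_kernel_commutator (Z.subgroupOf U) (abMod_subgroupOf hU) hβ hk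
  obtain ⟨f, hf⟩ := exists_hom_of_degree_one (isCharacter_of_irr hβ) hd
  refine ⟨(Units.coeHom ℂ).comp f, hg, fun u hu => ?_, fun u v hv => ?_⟩
  · show (f u : ℂ) = 1
    rw [← congrFun hf u, hk u hu, hd]
  · rw [show v = φ u from Subtype.ext hv]
    show Ψ (φ u) = (f u : ℂ) * Ψ u
    rw [← congrFun hf u]
    exact congrFun he u

/-- The twist does not depend on the extension. -/
theorem Tw.change (hB : Base Z θ) (hE : Ext Z θ U Ψ) {Ψ' : U → ℂ} (hE' : Ext Z θ U Ψ')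
    (hU : AbMod Z U) {g : H} {l : U →* ℂ} (hT : Tw Z U Ψ g l) : Tw Z U Ψ' g l := by
  classical
  haveI := Fintype.ofFinite U
  haveI := Fintype.ofFinite (Z.subgroupOf U)
  obtain ⟨β, hβ, hk, he⟩ := (gallagher (Z.subgroupOf U) (isCharacter_of_irr hE.irr)
    (hE.resIrr hB)).2.2 _ hE'.irr (by
      rw [show (fun n : Z.subgroupOf U => Ψ' n) = fun n : Z.subgroupOf U => Ψ n from
        funext fun n => (hE'.res _ (Subgroup.mem_subgroupOf.1 n.2)).trans
          (hE.res _ (Subgroup.mem_subgroupOf.1 n.2)).symm]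
      rw [classInner_irr_self (hE.resIrr hB)]
      exact one_ne_zero)
  have hd := irr_degree_one_of_kernel_commutator (Z.subgroupOf U) (abMod_subgroupOf hU) hβ hk
  obtain ⟨f, hf⟩ := exists_hom_of_degree_one (isCharacter_of_irr hβ) hd
  refine ⟨hT.cen, hT.ker, fun u v hv => ?_⟩
  have hvu : β v = β u := by
    have hmem : v * u⁻¹ ∈ Z.subgroupOf U := by
      rw [Subgroup.mem_subgroupOf, Subgroup.coe_mul, Subgroup.coe_inv, hv]
      exact hT.cen u u.2
    have h1 := hk _ hmem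
    rw [hd, hf] at h1
    have h1' : f (v * u⁻¹) = 1 := Units.val_eq_one.1 h1
    rw [hf]
    show (f v : ℂ) = f u
    rw [← one_mul (f u), ← h1', ← map_mul, inv_mul_cancel_right]
  rw [he, Pi.mul_apply, Pi.mul_apply, hvu, hT.conj u v hv]
  ring

/-- The preimage of a cyclic subgroup of the quotient. -/
def cyc (Z : Subgroup H) [Z.Normal] (x : H ⧸ Z) : Subgroup H :=
  (Subgroup.zpowers x).comap (QuotientGroup.mk' Z)

theorem le_cyc (x : H ⧸ Z) : Z ≤ cyc Z x := fun z hz => by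
  rw [cyc, Subgroup.mem_comap, show QuotientGroup.mk' Z z = 1 from (QuotientGroup.eq_one_iff z).2 hz]
  exact one_mem _

theorem mem_cyc {x : H ⧸ Z} {u : H} : u ∈ cyc Z x ↔ (u : H ⧸ Z) ∈ Subgroup.zpowers x := Iff.rfl

theorem abMod_cyc (x : H ⧸ Z) : AbMod Z (cyc Z x) := abMod_iff.2 fun g hg u hu => by
  obtain ⟨i, hi⟩ := Subgroup.mem_zpowers_iff.1 (mem_cyc.1 hg)
  obtain ⟨j, hj⟩ := Subgroup.mem_zpowers_iff.1 (mem_cyc.1 hu)
  rw [← hi, ← hj]
  exact Commute.zpow_zpow_self x i j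

theorem cen_cyc {x : H ⧸ Z} {g : H} (h : Commute x (g : H ⧸ Z)) : Cen Z (cyc Z x) g :=
  cen_iff.2 fun u hu => by
    obtain ⟨i, hi⟩ := Subgroup.mem_zpowers_iff.1 (mem_cyc.1 hu)
    rw [← hi]
    exact (h.zpow_left i).symm

theorem exists_ext_cyc (hB : Base Z θ) (x : H ⧸ Z) :
    ∃ Ψ : cyc Z x → ℂ, Ext Z θ (cyc Z x) Ψ := by
  classical
  haveI := Fintype.ofFinite (cyc Z x)
  haveI := Fintype.ofFinite (Z.subgroupOf (cyc Z x))
  haveI : IsCyclic (↥(cyc Z x) ⧸ Z.subgroupOf (cyc Z x)) := by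
    refine isCyclic_of_injective (QuotientGroup.lift _
      (((QuotientGroup.mk' Z).comp (cyc Z x).subtype).codRestrict (Subgroup.zpowers x) fun u => u.2)
      fun u hu => Subtype.ext ((QuotientGroup.eq_one_iff (u : H)).2 hu)) ?_
    rw [← MonoidHom.ker_eq_bot_iff, eq_bot_iff]
    intro u hu
    induction u using QuotientGroup.induction_on with
    | _ u =>
      have h1 : ((u : H) : H ⧸ Z) = 1 := congrArg Subtype.val hu
      exact Subgroup.mem_bot.2 ((QuotientGroup.eq_one_iff u).2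
        (Subgroup.mem_subgroupOf.2 ((QuotientGroup.eq_one_iff (u : H)).1 h1)))
  obtain ⟨ψ, hψ, hres⟩ := exists_extension_of_cyclic (N := Z.subgroupOf (cyc Z x))
    (isIrr_subgroupOf Z (le_cyc x) hB.irr) (fun l z => hB.inv l _ _ rfl) inferInstance
  exact ⟨ψ, le_cyc x, hψ, fun u hu => hres ⟨u, hu⟩⟩

/-- `c` is a value of the pairing at `(x, g)`. -/
def IsB (Z : Subgroup H) [Z.Normal] (θ : Z → ℂ) (x g : H ⧸ Z) (c : ℂ) : Prop :=
  ∃ (U : Subgroup H) (Ψ : U → ℂ) (gh : H) (l : U →* ℂ) (xh : U),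
    Ext Z θ U Ψ ∧ AbMod Z U ∧ Tw Z U Ψ gh l ∧ ((xh : H) : H ⧸ Z) = x ∧ (gh : H ⧸ Z) = g ∧ l xh = c

open scoped Classical in
/-- The commutator pairing on commuting pairs. -/
noncomputable def pairB (Z : Subgroup H) [Z.Normal] (θ : Z → ℂ) (x g : H ⧸ Z) : ℂ :=
  if h : ∃ c, IsB Z θ x g c then h.choose else 0

theorem IsB.unique (hB : Base Z θ) {x g : H ⧸ Z} {c c' : ℂ} (h : IsB Z θ x g c)
    (h' : IsB Z θ x g c') : c = c' := by
  obtain ⟨U, Ψ, gh, l, xh, hE, hU, hT, hx, hg, rfl⟩ := h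
  obtain ⟨U', Ψ', gh', l', xh', hE', hU', hT', hx', hg', rfl⟩ := h'
  have hle : ∀ (W : Subgroup H), Z ≤ W → ∀ w ∈ W, (w : H ⧸ Z) = x → cyc Z x ≤ W := by
    intro W hZW w hw hwx u hu
    obtain ⟨i, hi⟩ := Subgroup.mem_zpowers_iff.1 (mem_cyc.1 hu)
    rw [← hwx, ← QuotientGroup.mk_zpow, QuotientGroup.eq] at hi
    simpa using W.mul_mem (W.zpow_mem hw i) (hZW hi)
  have hL := hle U hE.le xh xh.2 hx
  have hL' := hle U' hE'.le xh' xh'.2 hx'
  have hEL := hE.restrict hB hL (le_cyc x)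
  have hEL' := hE'.restrict hB hL' (le_cyc x)
  have hzU : gh'⁻¹ * gh ∈ cyc Z x :=
    le_cyc x (QuotientGroup.eq.1 (hg'.trans hg.symm))
  have hT2 : Tw Z (cyc Z x) (resSub hL' Ψ') gh (l'.comp (Subgroup.inclusion hL')) := by
    have := (hT'.restrict hL').mul_mem_right hEL' (abMod_cyc x) hzU
    rwa [mul_inv_cancel_left] at this
  have heq := (((hT.restrict hL).change hB hEL hEL' (abMod_cyc x))).unique hB hEL' hT2
  have hxc : (xh : H) ∈ cyc Z x := by rw [mem_cyc, hx]; exact Subgroup.mem_zpowers x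
  calc l xh = l' (Subgroup.inclusion hL' ⟨xh, hxc⟩) := DFunLike.congr_fun heq ⟨xh, hxc⟩
    _ = l' xh' := hT'.eq_of_mod (by
        show (xh : H) * (xh' : H)⁻¹ ∈ Z
        rw [← QuotientGroup.eq_one_iff, QuotientGroup.mk_mul, QuotientGroup.mk_inv, hx, hx',
          mul_inv_cancel])

theorem pairB_eq (hB : Base Z θ) (hE : Ext Z θ U Ψ) (hU : AbMod Z U) {gh : H} {l : U →* ℂ}
    (hT : Tw Z U Ψ gh l) (xh : U) : pairB Z θ ((xh : H) : H ⧸ Z) (gh : H ⧸ Z) = l xh := by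
  have h : IsB Z θ ((xh : H) : H ⧸ Z) (gh : H ⧸ Z) (l xh) :=
    ⟨U, Ψ, gh, l, xh, hE, hU, hT, rfl, rfl, rfl⟩
  rw [pairB, dif_pos ⟨_, h⟩]
  exact IsB.unique hB (Exists.choose_spec _) h

theorem exists_data (hB : Base Z θ) {x g : H ⧸ Z} (h : Commute x g) :
    ∃ (Ψ : cyc Z x → ℂ) (gh : H) (l : cyc Z x →* ℂ) (xh : cyc Z x),
      Ext Z θ (cyc Z x) Ψ ∧ Tw Z (cyc Z x) Ψ gh l ∧ ((xh : H) : H ⧸ Z) = x ∧ (gh : H ⧸ Z) = g := by
  obtain ⟨Ψ, hΨ⟩ := exists_ext_cyc hB x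
  obtain ⟨gh, rfl⟩ := QuotientGroup.mk_surjective g
  obtain ⟨xh, hxh⟩ := QuotientGroup.mk_surjective x
  obtain ⟨l, hl⟩ := exists_tw hB hΨ (abMod_cyc x) (cen_cyc h)
  exact ⟨Ψ, gh, l, ⟨xh, by rw [mem_cyc, hxh]; exact Subgroup.mem_zpowers x⟩, hΨ, hl, hxh, rfl⟩

theorem pairB_mul_right (hB : Base Z θ) {x g k : H ⧸ Z} (hg : Commute x g) (hk : Commute x k) :
    pairB Z θ x (g * k) = pairB Z θ x g * pairB Z θ x k := by
  obtain ⟨Ψ, gh, lg, xh, hE, hg', hx, rfl⟩ := exists_data hB hg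
  obtain ⟨kh, rfl⟩ := QuotientGroup.mk_surjective k
  obtain ⟨lk, hk'⟩ := exists_tw hB hE (abMod_cyc x) (cen_cyc hk)
  rw [← hx, ← QuotientGroup.mk_mul]
  have hU := abMod_cyc (Z := Z) x
  rw [pairB_eq hB hE hU (hg'.mul hE.le hk'), pairB_eq hB hE hU hg', pairB_eq hB hE hU hk',
    MonoidHom.mul_apply]

theorem pairB_pow_left (hB : Base Z θ) {x g : H ⧸ Z} (h : Commute x g) (m : ℕ) :
    pairB Z θ (x ^ m) g = pairB Z θ x g ^ m := by
  obtain ⟨Ψ, gh, l, xh, hE, hT, hx, rfl⟩ := exists_data hB h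
  rw [← hx, pairB_eq hB hE (abMod_cyc x) hT xh, ← map_pow, ← pairB_eq hB hE (abMod_cyc x) hT (xh ^ m),
    SubgroupClass.coe_pow, QuotientGroup.mk_pow]

theorem pairB_one_left (hB : Base Z θ) (g : H ⧸ Z) : pairB Z θ 1 g = 1 := by
  simpa using pairB_pow_left hB (Commute.refl g) 0

theorem pairB_eq_one_of_mem (hB : Base Z θ) (hE : Ext Z θ U Ψ) (hU : AbMod Z U) {x g : H}
    (hx : x ∈ U) (hg : g ∈ U) : pairB Z θ (x : H ⧸ Z) (g : H ⧸ Z) = 1 := by
  rw [pairB_eq hB hE hU (Tw.one_of_mem hE hU hg) ⟨x, hx⟩, MonoidHom.one_apply]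

theorem pairB_one_right (hB : Base Z θ) (x : H ⧸ Z) : pairB Z θ x 1 = 1 := by
  obtain ⟨Ψ, hE⟩ := exists_ext_cyc hB x
  obtain ⟨xh, rfl⟩ := QuotientGroup.mk_surjective x
  exact pairB_eq_one_of_mem hB hE (abMod_cyc _) (Subgroup.mem_zpowers _) (one_mem _)

theorem pairB_eq_one_of_zpowers_right (hB : Base Z θ) {x g : H ⧸ Z}
    (h : g ∈ Subgroup.zpowers x) : pairB Z θ x g = 1 := by
  obtain ⟨Ψ, hE⟩ := exists_ext_cyc hB x
  obtain ⟨xh, rfl⟩ := QuotientGroup.mk_surjective x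
  obtain ⟨gh, rfl⟩ := QuotientGroup.mk_surjective g
  exact pairB_eq_one_of_mem hB hE (abMod_cyc _) (Subgroup.mem_zpowers _) h

theorem pairB_eq_one_of_zpowers_left (hB : Base Z θ) {x g : H ⧸ Z}
    (h : x ∈ Subgroup.zpowers g) : pairB Z θ x g = 1 := by
  obtain ⟨Ψ, hE⟩ := exists_ext_cyc hB g
  obtain ⟨xh, rfl⟩ := QuotientGroup.mk_surjective x
  obtain ⟨gh, rfl⟩ := QuotientGroup.mk_surjective g
  exact pairB_eq_one_of_mem hB hE (abMod_cyc _) h (Subgroup.mem_zpowers _)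

theorem pairB_pow_eq_one (hB : Base Z θ) {x g : H ⧸ Z} (h : Commute x g) {m : ℕ} (hm : x ^ m = 1) :
    pairB Z θ x g ^ m = 1 := by
  rw [← pairB_pow_left hB h, hm, pairB_one_left hB]

theorem pairB_pow_right (hB : Base Z θ) {x g : H ⧸ Z} (h : Commute x g) (m : ℕ) :
    pairB Z θ x (g ^ m) = pairB Z θ x g ^ m := by
  induction m with
  | zero => rw [pow_zero, pow_zero, pairB_one_right hB]
  | succ m ih => rw [pow_succ, pow_succ, pairB_mul_right hB (h.pow_right m) h, ih]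

theorem pairB_inv_right (hB : Base Z θ) {x g : H ⧸ Z} (h : Commute x g) :
    pairB Z θ x g⁻¹ = (pairB Z θ x g)⁻¹ := by
  refine eq_inv_of_mul_eq_one_left ?_
  rw [← pairB_mul_right hB h.inv_right h, inv_mul_cancel, pairB_one_right hB]

/-- An element with trivial pairing against all of `U` fixes the extension. -/
theorem fixed_of_pairB (hB : Base Z θ) (hE : Ext Z θ U Ψ) (hU : AbMod Z U) {g : H}
    (hg : Cen Z U g) (h : ∀ u ∈ U, pairB Z θ (u : H ⧸ Z) (g : H ⧸ Z) = 1) :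
    Tw Z U Ψ g 1 := by
  obtain ⟨l, hl⟩ := exists_tw hB hE hU hg
  have : l = 1 := MonoidHom.ext fun u => (pairB_eq hB hE hU hl u).symm.trans (h u u.2)
  exact this ▸ hl

theorem pairB_cyc (hB : Base Z θ) {x g : H ⧸ Z} (h : Commute x g) (h1 : pairB Z θ x g = 1)
    {y : H ⧸ Z} (hy : y ∈ Subgroup.zpowers x) : pairB Z θ y g = 1 := by
  obtain ⟨m, rfl⟩ := (isOfFinOrder_of_finite x).mem_powers_iff_mem_zpowers.2 hy
  show pairB Z θ (x ^ m) g = 1
  rw [pairB_pow_left hB h, h1, one_pow]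

/-- Elements with trivial pairing admit a common extension. -/
theorem exists_ext_pair (hB : Base Z θ) {x y : H ⧸ Z} (hxy : Commute x y)
    (h1 : pairB Z θ x y = 1) :
    ∃ (W : Subgroup H) (Φ : W → ℂ), Ext Z θ W Φ ∧ AbMod Z W ∧
      ∀ u : H, u ∈ W ↔ (u : H ⧸ Z) ∈ Subgroup.closure ({x, y} : Set (H ⧸ Z)) := by
  classical
  set S := Subgroup.closure ({x, y} : Set (H ⧸ Z)) with hS
  have hform : ∀ u ∈ S, ∃ i j : ℤ, u = x ^ i * y ^ j := by
    intro u hu
    induction hu using Subgroup.closure_induction with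
    | mem w hw =>
      rcases hw with rfl | rfl
      · exact ⟨1, 0, by simp⟩
      · exact ⟨0, 1, by simp⟩
    | one => exact ⟨0, 0, by simp⟩
    | mul a b _ _ ha hb =>
      obtain ⟨i, j, rfl⟩ := ha
      obtain ⟨k, l, rfl⟩ := hb
      exact ⟨i + k, j + l, by
        rw [zpow_add, zpow_add, mul_assoc, ← mul_assoc (y ^ j), ← (hxy.zpow_zpow k j).eq]
        simp only [mul_assoc]⟩
    | inv a _ ha =>
      obtain ⟨i, j, rfl⟩ := ha
      exact ⟨-i, -j, by rw [mul_inv_rev, zpow_neg, zpow_neg]; exact ((hxy.zpow_zpow i j).inv_inv).symm.eq⟩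
  set W := S.comap (QuotientGroup.mk' Z) with hW
  have hmem : ∀ u : H, u ∈ W ↔ (u : H ⧸ Z) ∈ S := fun _ => Iff.rfl
  have hcomm : ∀ a ∈ S, ∀ b ∈ S, Commute a b := by
    intro a ha b hb
    obtain ⟨i, j, rfl⟩ := hform a ha
    obtain ⟨k, l, rfl⟩ := hform b hb
    exact ((Commute.zpow_zpow_self x i k).mul_right (hxy.zpow_zpow i l)).mul_left
      ((hxy.zpow_zpow k j).symm.mul_right (Commute.zpow_zpow_self y j l))
  have hWab : AbMod Z W := abMod_iff.2 fun a ha b hb => hcomm _ ha _ hb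
  have hxS : x ∈ S := Subgroup.subset_closure (by simp)
  have hyS : y ∈ S := Subgroup.subset_closure (by simp)
  have hLW : cyc Z x ≤ W := fun u hu => (Subgroup.zpowers_le.2 hxS) hu
  haveI := Fintype.ofFinite W
  haveI := Fintype.ofFinite (cyc Z x)
  haveI := Fintype.ofFinite ((cyc Z x).subgroupOf W)
  haveI hnorm : ((cyc Z x).subgroupOf W).Normal := ⟨fun n hn g => by
    rw [Subgroup.mem_subgroupOf] at hn ⊢
    simpa using (cyc Z x).mul_mem (le_cyc x (hWab g g.2 n (hLW hn))) hn⟩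
  obtain ⟨Ψ, hΨ⟩ := exists_ext_cyc hB x
  have hfix : ∀ g ∈ W, Tw Z (cyc Z x) Ψ g 1 := by
    intro g hg
    obtain ⟨i, j, hij⟩ : ∃ i j : ℤ, (g : H ⧸ Z) = x ^ i * y ^ j := hform _ hg
    have hxg : Commute x (g : H ⧸ Z) := hcomm x hxS _ hg
    refine fixed_of_pairB hB hΨ (abMod_cyc x) (cen_cyc hxg) fun u hu => ?_
    refine pairB_cyc hB hxg ?_ hu
    rw [hij, pairB_mul_right hB ((Commute.refl x).zpow_right i) (hxy.zpow_right j),
      pairB_eq_one_of_zpowers_right hB (Subgroup.zpow_mem_zpowers x i), one_mul]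
    obtain ⟨m, hm⟩ := (isOfFinOrder_of_finite y).mem_powers_iff_mem_zpowers.2
      (Subgroup.zpow_mem_zpowers y j)
    rw [← hm]
    show pairB Z θ x (y ^ m) = 1
    rw [pairB_pow_right hB hxy, h1, one_pow]
  haveI : IsCyclic (↥W ⧸ (cyc Z x).subgroupOf W) := by
    obtain ⟨yh, hyh⟩ := QuotientGroup.mk_surjective y
    refine ⟨⟨QuotientGroup.mk (⟨yh, by rw [hmem, hyh]; exact hyS⟩ : W), fun q => ?_⟩⟩
    induction q using QuotientGroup.induction_on with
    | _ w =>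
      obtain ⟨i, j, hij⟩ : ∃ i j : ℤ, ((w : H) : H ⧸ Z) = x ^ i * y ^ j := hform _ w.2
      refine Subgroup.mem_zpowers_iff.2 ⟨j, ?_⟩
      rw [← QuotientGroup.mk_zpow, QuotientGroup.eq, Subgroup.mem_subgroupOf, mem_cyc]
      simp only [Subgroup.coe_mul, Subgroup.coe_inv, SubgroupClass.coe_zpow, QuotientGroup.mk_mul,
        QuotientGroup.mk_inv, QuotientGroup.mk_zpow, hyh, hij]
      rw [(hxy.zpow_zpow i j).eq, inv_mul_cancel_left]
      exact Subgroup.zpow_mem_zpowers x i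
  obtain ⟨Φ, hΦ, hres⟩ := exists_extension_of_cyclic (N := (cyc Z x).subgroupOf W)
    (isIrrCharacter_comp_surjective hΨ.irr (Subgroup.subgroupOfEquivOfLe hLW).toMonoidHom
      (Subgroup.subgroupOfEquivOfLe hLW).surjective) (fun g n => by
      have := (hfix g g.2).conj ⟨_, n.2⟩ ⟨_, hnorm.conj_mem (n : W) n.2 g⟩ rfl
      rw [MonoidHom.one_apply, one_mul] at this
      exact this) inferInstance
  refine ⟨W, Φ, ⟨(le_cyc x).trans hLW, hΦ, fun u hu => ?_⟩, hWab, hmem⟩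
  rw [← hΨ.res ⟨u, le_cyc x hu⟩ hu]
  exact hres ⟨u, le_cyc x hu⟩

theorem pairB_mul_left (hB : Base Z θ) {x y g : H ⧸ Z} (hxy : Commute x y) (hxg : Commute x g)
    (hyg : Commute y g) (h1 : pairB Z θ x y = 1) :
    pairB Z θ (x * y) g = pairB Z θ x g * pairB Z θ y g := by
  obtain ⟨W, Φ, hE, hW, hmem⟩ := exists_ext_pair hB hxy h1
  obtain ⟨xh, rfl⟩ := QuotientGroup.mk_surjective x
  obtain ⟨yh, rfl⟩ := QuotientGroup.mk_surjective y
  obtain ⟨gh, rfl⟩ := QuotientGroup.mk_surjective g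
  have hx : xh ∈ W := (hmem _).2 (Subgroup.subset_closure (by simp))
  have hy : yh ∈ W := (hmem _).2 (Subgroup.subset_closure (by simp))
  have hcen : Cen Z W gh := by
    refine cen_iff.2 fun u hu => ?_
    have hle : Subgroup.closure ({(xh : H ⧸ Z), (yh : H ⧸ Z)} : Set (H ⧸ Z)) ≤
        Subgroup.centralizer {(gh : H ⧸ Z)} := by
      rw [Subgroup.closure_le]
      intro w hw
      rw [SetLike.mem_coe, Subgroup.mem_centralizer_singleton_iff]
      rcases hw with rfl | rfl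
      · exact hxg.eq
      · exact hyg.eq
    exact (Subgroup.mem_centralizer_singleton_iff.1 (hle ((hmem u).1 hu))).symm
  obtain ⟨l, hl⟩ := exists_tw hB hE hW hcen
  rw [← QuotientGroup.mk_mul, pairB_eq hB hE hW hl ⟨xh * yh, W.mul_mem hx hy⟩,
    pairB_eq hB hE hW hl ⟨xh, hx⟩, pairB_eq hB hE hW hl ⟨yh, hy⟩, ← map_mul]
  rfl

/-- The pairing is trivial on what a totally isotropic set of elements generates. -/
theorem pairB_closure (hB : Base Z θ) {A : Set (H ⧸ Z)} (hA : ∀ a ∈ A, ∀ b ∈ A, Commute a b)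
    (hA1 : ∀ a ∈ A, ∀ b ∈ A, pairB Z θ a b = 1) {w : H ⧸ Z} (hw : w ∈ Subgroup.closure A) :
    ∀ g : H ⧸ Z, (∀ a ∈ A, Commute a g ∧ pairB Z θ a g = 1) → Commute w g ∧ pairB Z θ w g = 1 := by
  induction hw using Subgroup.closure_induction_right with
  | one => exact fun g _ => ⟨Commute.one_left g, pairB_one_left hB g⟩
  | mul_right w _ a ha ih =>
    intro g hg
    have h1 := ih a fun b hb => ⟨hA b hb a ha, hA1 b hb a ha⟩
    have h2 := ih g hg
    refine ⟨h2.1.mul_left (hg a ha).1, ?_⟩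
    rw [pairB_mul_left hB h1.1 h2.1 (hg a ha).1 h1.2, h2.2, (hg a ha).2, one_mul]
  | mul_inv_cancel w _ a ha ih =>
    intro g hg
    have h1 := ih a⁻¹ fun b hb => ⟨(hA b hb a ha).inv_right,
      by rw [pairB_inv_right hB (hA b hb a ha), hA1 b hb a ha, inv_one]⟩
    have h2 := ih g hg
    have h3 := (hg a ha).1.inv_left
    refine ⟨h2.1.mul_left h3, ?_⟩
    have h4 : pairB Z θ a⁻¹ g = 1 :=
      pairB_cyc hB (hg a ha).1 (hg a ha).2 (inv_mem (Subgroup.mem_zpowers a))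
    rw [pairB_mul_left hB h1.1 h2.1 h3 h1.2, h2.2, h4, one_mul]

/-- The pairing is invariant under conjugation. -/
theorem pairB_conj (hB : Base Z θ) {x g : H ⧸ Z} (h : Commute x g) (k : H ⧸ Z) :
    pairB Z θ (k * x * k⁻¹) (k * g * k⁻¹) = pairB Z θ x g := by
  classical
  obtain ⟨Ψ, gh, l, xh, hE, hT, hx, rfl⟩ := exists_data hB h
  obtain ⟨kh, rfl⟩ := QuotientGroup.mk_surjective k
  set φ : H →* H := (MulAut.conj kh⁻¹).toMonoidHom with hφ
  have hφa : ∀ a : H, φ a = kh⁻¹ * a * kh := fun a => by simp [hφ]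
  have hφs : Function.Surjective φ := (MulAut.conj kh⁻¹).surjective
  have hφZ : ∀ a : H, φ a ∈ Z ↔ a ∈ Z := fun a => by
    rw [hφa]
    exact ⟨fun ha => by simpa [mul_assoc] using
      Subgroup.Normal.conj_mem (inferInstance : Z.Normal) _ ha kh,
      fun ha => Subgroup.Normal.conj_mem' inferInstance a ha kh⟩
  set f : (cyc Z x).comap φ →* cyc Z x := (φ.comp ((cyc Z x).comap φ).subtype).codRestrict (cyc Z x) fun u => u.2 with hf
  have hfa : ∀ u : (cyc Z x).comap φ, ((f u : cyc Z x) : H) = kh⁻¹ * (u : H) * kh := fun u => hφa u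
  have hfs : Function.Surjective f := fun u => by
    obtain ⟨a, ha⟩ := hφs (u : H)
    exact ⟨⟨a, by rw [Subgroup.mem_comap, ha]; exact u.2⟩, Subtype.ext ha⟩
  have hE' : Ext Z θ ((cyc Z x).comap φ) (fun u => Ψ (f u)) :=
    { le := fun z hz => hE.le ((hφZ z).2 hz)
      irr := isIrrCharacter_comp_surjective hE.irr f hfs
      res := fun u hu => by
        rw [hE.res (f u) ((hφZ _).2 hu)]
        refine hB.inv kh⁻¹ ⟨u, hu⟩ ⟨_, (hφZ _).2 hu⟩ ?_
        show φ (u : H) = _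
        rw [hφa, inv_inv] }
  have hU' : AbMod Z ((cyc Z x).comap φ) := fun a ha b hb => (hφZ _).1 (by
    simpa only [map_mul, map_inv] using abMod_cyc (Z := Z) x _ ha _ hb)
  have hT' : Tw Z ((cyc Z x).comap φ) (fun u => Ψ (f u)) (kh * gh * kh⁻¹) (l.comp f) :=
    { cen := fun a ha => (hφZ _).1 (by
        have := hT.cen _ ha
        rwa [show φ (kh * gh * kh⁻¹ * a * (kh * gh * kh⁻¹)⁻¹ * a⁻¹) =
          gh * φ a * gh⁻¹ * (φ a)⁻¹ by simp only [hφa]; group])
      ker := fun u hu => hT.ker (f u) ((hφZ _).2 hu)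
      conj := fun u v hv => hT.conj (f u) (f v) (by rw [hfa, hfa, hv]; group) }
  have hxm : kh * (xh : H) * kh⁻¹ ∈ (cyc Z x).comap φ := by
    rw [Subgroup.mem_comap, hφa, show kh⁻¹ * (kh * (xh : H) * kh⁻¹) * kh = xh by group]
    exact xh.2
  rw [← hx, ← QuotientGroup.mk_inv, ← QuotientGroup.mk_mul, ← QuotientGroup.mk_mul,
    ← QuotientGroup.mk_mul, ← QuotientGroup.mk_mul, pairB_eq hB hE' hU' hT' ⟨_, hxm⟩,
    pairB_eq hB hE (abMod_cyc x) hT xh]
  show l (f ⟨_, hxm⟩) = l xh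
  congr 1
  exact Subtype.ext (by rw [hfa]; group)

end CfsgLib.CentralTypeSmall
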